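import Cfsg.Agent.Lib.FFComp.Unique

/-!
# Split families of subgroups and their models
-/

set_option autoImplicit false
set_option linter.unusedSectionVars false

namespace Cfsg.Agent.Lib.FFComp

open Subgroup SL2Recog FFMin Matrix
open scoped Pointwise
open Cfsg.Agent.Lib.SL2 (SLtwo)

universe u

variable {H V : Type u} [Group H] [AddCommGroup V] [DistribMulAction H V] {p : ℕ}

/-- The span of the commutator vectors of `E`. -/
def devSpan (V : Type*) [AddCommGroup V] [DistribMulAction H V] (E : Subgroup H) :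
    AddSubgroup V :=
  AddSubgroup.closure {w | ∃ e ∈ E, ∃ v : V, w = dev e v}

theorem dev_mem_devSpan {E : Subgroup H} {e : H} (he : e ∈ E) (v : V) :
    dev e v ∈ devSpan V E :=
  AddSubgroup.subset_closure ⟨e, he, v, rfl⟩

theorem devSpan_le {E : Subgroup H} {U : AddSubgroup V} (h : E ≤ fxTo U) : devSpan V E ≤ U :=
  (AddSubgroup.closure_le U).2 fun _ ⟨_, he, v, hw⟩ => hw ▸ h he v

/-- The natural `SL₂` model of one block. -/
def IsSLBlock (p : ℕ) (V : Type u) [AddCommGroup V] [DistribMulAction H V] (E : Subgroup H) :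
    Prop :=
  ∃ n : ℕ, 1 ≤ n ∧ ∃ (F : Type) (_ : Field F) (_ : Fintype F), Fintype.card F = p ^ n ∧
    ∃ (ρ : ↥E ≃* SLtwo F) (π : V →+ (Fin 2 → F)), Function.Surjective π ∧
      (∀ v, π v = 0 ↔ v ∈ fx V E) ∧
      ∀ (e : ↥E) (v : V), π ((e : H) • v) = ((ρ e : SLtwo F) : Matrix (Fin 2) (Fin 2) F) *ᵥ π v

/-- The symmetric model of one block. -/
def IsPermBlock (p : ℕ) (V : Type u) [AddCommGroup V] [DistribMulAction H V] (E : Subgroup H) :
    Prop :=
  p = 2 ∧ ∃ n : ℕ, 1 ≤ n ∧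
    ∃ (ρ : ↥E ≃* Equiv.Perm (Fin (2 ^ n + 1))) (π : V →+ (Fin (2 ^ n + 1) → ZMod 2)),
      (∀ v, ∑ i, π v i = 0) ∧ (∀ f, ∑ i, f i = 0 → ∃ v, π v = f) ∧
      (∀ v, π v = 0 ↔ v ∈ fx V E) ∧
      ∀ (e : ↥E) (v : V) (i : Fin (2 ^ n + 1)), π ((e : H) • v) i = π v ((ρ e)⁻¹ i)

/-- A family of subgroups with orthogonal commutator spaces generating together with `T`. -/
structure Split (V : Type u) [AddCommGroup V] [DistribMulAction H V] (T : Subgroup H)
    {ι : Type*} (E : ι → Subgroup H) : Prop where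
  orth : ∀ i j, i ≠ j → E i ≤ fxTo (fx V (E j))
  span : ∀ i, fx V (E i) ⊔ devSpan V (E i) = ⊤
  conj : ∀ i j, ∃ t ∈ T, cnj t (E i) = E j
  perm : ∀ t ∈ T, ∀ i, ∃ j, cnj t (E i) ≤ E j
  top : (⨆ i, E i) ⊔ T = ⊤

namespace Split

variable {T : Subgroup H} {ι : Type*} {E : ι → Subgroup H}

theorem reindex (hs : Split V T E) {κ : Type*} (f : κ ≃ ι) : Split V T (E ∘ f) :=
  ⟨fun i j h => hs.orth _ _ (f.injective.ne h), fun i => hs.span _, fun i j => hs.conj _ _,
    fun t ht i => by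
      obtain ⟨j, hj⟩ := hs.perm t ht (f i)
      exact ⟨f.symm j, by simpa using hj⟩, by
    show (⨆ k, E (f k)) ⊔ T = ⊤
    rw [f.iSup_comp (g := E)]
    exact hs.top⟩

variable [FaithfulSMul H V]

theorem comm (hs : Split V T E) {i j : ι} (h : i ≠ j) : Comm (E i) (E j) := by
  intro a ha b hb
  refine eq_of_smul_eq_smul fun v : V => ?_
  have h1 := dev_dev_sub a b v
  rw [dev_eq_zero ha (hs.orth j i (Ne.symm h) hb v), dev_eq_zero hb (hs.orth i j h ha v),
    sub_zero] at h1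
  exact sub_eq_zero.1 h1.symm

theorem inf_eq_bot (hs : Split V T E) (i : ι) : E i ⊓ (⨆ j ∈ {j | j ≠ i}, E j) = ⊥ := by
  refine (Subgroup.eq_bot_iff_forall _).2 fun x hx => eq_one_of_dev fun v : V => ?_
  obtain ⟨u, hu, w, hw, rfl⟩ := AddSubgroup.mem_sup.1 (hs.span i ▸ AddSubgroup.mem_top v)
  rw [dev_add, dev_eq_zero hx.1 hu, zero_add]
  have hle : (⨆ j ∈ {j | j ≠ i}, E j) ≤ MulAction.stabilizer H w :=
    iSup₂_le fun j hj => le_stab.2 (devSpan_le (hs.orth i j (Ne.symm hj)) hw)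
  exact dev_eq_zero_iff.2 (MulAction.mem_stabilizer_iff.1 (hle hx.2))

theorem decomp [Finite ι] (hs : Split V T E) :
    fx V (⨆ i, E i) ⊔ (⨆ i, devSpan V (E i)) = ⊤ := by
  classical
  have : Fintype ι := Fintype.ofFinite ι
  suffices h : ∀ s : Finset ι, ∀ v : V, ∃ u, (∀ i ∈ s, u ∈ fx V (E i)) ∧
      v - u ∈ ⨆ i, devSpan V (E i) by
    refine eq_top_iff.2 fun v _ => ?_
    obtain ⟨u, hu, hvu⟩ := h Finset.univ v
    refine AddSubgroup.mem_sup.2 ⟨u, ?_, v - u, hvu, add_sub_cancel u v⟩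
    exact le_stab.1 (iSup_le fun i => le_stab.2 (hu i (Finset.mem_univ i)))
  intro s
  induction s using Finset.induction_on with
  | empty => exact fun v => ⟨v, fun i hi => absurd hi (Finset.notMem_empty i), by simp⟩
  | @insert i s his ih =>
    intro v
    obtain ⟨u, hu, hvu⟩ := ih v
    obtain ⟨x, hx, w, hw, rfl⟩ := AddSubgroup.mem_sup.1 (hs.span i ▸ AddSubgroup.mem_top u)
    refine ⟨x, fun j hj => ?_, ?_⟩
    · rcases Finset.mem_insert.1 hj with rfl | hj'
      · exact hx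
      · have h1 := devSpan_le (hs.orth i j (fun h => his (h ▸ hj'))) hw
        simpa using sub_mem (hu j hj') h1
    · have e : v - x = (v - (x + w)) + w := by abel
      rw [e]
      exact add_mem hvu (le_iSup (fun j => devSpan V (E j)) i hw)

end Split

variable [Finite H] [Finite V] [FaithfulSMul H V] [Fact p.Prime]
variable {T : Sylow p H} {M : Subgroup H}

theorem Std.nonempty_members (hc : Std p H V) {A : Subgroup H} (hA : Mem p V A) (S : Sylow p H) :
    (members p V (S : Subgroup H)).Nonempty := by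
  obtain ⟨T, hAT⟩ := hA.elem.isPGroup.exists_le_sylow
  obtain ⟨g, hg⟩ := MulAction.exists_smul_eq H T S
  refine ⟨cnj g A, hA.cnj g, ?_⟩
  rw [← hg, coe_smul_sylow]
  exact cnj_mono g hAT

/-- A translate by an element of `T` carries slots to slots. -/
theorem inSlot_cnj {A C : Subgroup H} {t : H} (ht : t ∈ (T : Subgroup H))
    (hC : InSlot p V (members p V (T : Subgroup H) \ {A}) C) :
    InSlot p V (members p V (T : Subgroup H) \ {cnj t A}) (cnj t C) := by
  have hback : ∀ D ∈ members p V (T : Subgroup H) \ {cnj t A},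
      cnj t⁻¹ D ∈ members p V (T : Subgroup H) \ {A} := fun D hD =>
    ⟨⟨hD.1.1.cnj _, cnj_le_of_mem (inv_mem ht) hD.1.2⟩, fun h => hD.2 (by
      rw [Set.mem_singleton_iff] at h ⊢
      rw [← h, cnj_cnj, mul_inv_cancel, cnj_one])⟩
  refine ⟨hC.mem.cnj t, fun h => hC.not_mem ?_, fun D hD => ?_⟩
  · have h1 := hback _ h
    rwa [cnj_cnj, inv_mul_cancel, cnj_one] at h1
  · have h1 := (hC.comm _ (hback D hD)).cnj t
    rwa [cnj_cnj, mul_inv_cancel, cnj_one] at h1

theorem cnj_le_cnj_iff {g : H} {X Y : Subgroup H} : cnj g X ≤ cnj g Y ↔ X ≤ Y :=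
  map_le_map_iff_of_injective (MulAut.conj g).injective

theorem cnj_eq_of_comm {X Y : Subgroup H} (h : Comm X Y) {y : H} (hy : y ∈ Y) :
    cnj y X = X := by
  ext x
  rw [mem_cnj]
  refine ⟨fun hx => ?_, fun hx => ?_⟩
  · have h2 : x = y⁻¹ * x * y := by
      calc x = y * (y⁻¹ * x * y) * y⁻¹ := by group
        _ = y⁻¹ * x * y := by rw [← h _ hx y hy, mul_inv_cancel_right]
    exact h2 ▸ hx
  · rw [mul_assoc, h x hx y hy, inv_mul_cancel_left]
    exact hx

end Cfsg.Agent.Lib.FFComp
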