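import Cfsg.Agent.Lib.FFComp.Small

/-!
# The blocks of a group with a unique maximal subgroup above a Sylow subgroup and an offender
-/

set_option autoImplicit false
set_option linter.unusedSectionVars false

namespace Cfsg.Agent.Lib.FFComp

open Subgroup SL2Recog FFMin
open scoped Pointwise

universe u

variable {H V : Type u} [Group H] [AddCommGroup V] [DistribMulAction H V] {p : ℕ}
  [Finite H] [Finite V] [FaithfulSMul H V] [Fact p.Prime]

/-- The conclusion: finitely many blocks generated by the members. -/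
structure Blocks (p : ℕ) (V : Type u) [AddCommGroup V] [DistribMulAction H V] (T : Subgroup H)
    {r : ℕ} (E : Fin r → Subgroup H) : Prop where
  split : Split V T E
  pos : 1 ≤ r
  model : ∀ i, IsSLBlock p V (E i) ∨ IsPermBlock p V (E i)
  eq : (⨆ i, E i) = sSup {D : Subgroup H | Mem p V D}

theorem blocks_of_split {T : Sylow p H} {ι : Type*} [Finite ι] [Nonempty ι]
    {E : ι → Subgroup H} (hs : Split V (T : Subgroup H) E)
    (hm : ∀ i, IsSLBlock p V (E i) ∨ IsPermBlock p V (E i))
    (hle : ∀ i, E i ≤ sSup {D : Subgroup H | Mem p V D})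
    (hmem : ∀ D ∈ members p V (T : Subgroup H), D ≤ ⨆ i, E i) :
    ∃ (r : ℕ) (E' : Fin r → Subgroup H), Blocks p V (T : Subgroup H) E' := by
  refine ⟨Nat.card ι, E ∘ (Finite.equivFin ι).symm, hs.reindex _, Nat.card_pos, fun i => hm _, ?_⟩
  rw [show (⨆ i, (E ∘ (Finite.equivFin ι).symm) i) = ⨆ i, E i from
    (Finite.equivFin ι).symm.iSup_comp (g := E)]
  refine le_antisymm (iSup_le hle) (sSup_le fun D hD => ?_)
  set N := ⨆ i, E i with hN
  obtain ⟨S, hDS⟩ := hD.elem.isPGroup.exists_le_sylow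
  obtain ⟨g, hg⟩ := MulAction.exists_smul_eq H S T
  have h1 : cnj g D ≤ N := hmem _ ⟨hD.cnj g, by
    rw [← hg, coe_smul_sylow]
    exact cnj_mono g hDS⟩
  have htop : normalizer (N : Set H) = ⊤ := by
    refine top_unique (hs.top.ge.trans (sup_le le_normalizer fun t ht => ?_))
    refine mem_normalizer_iff_map_conj_eq.2 (Subgroup.eq_of_le_of_card_ge ?_ (card_cnj t N).ge)
    rw [map_le_iff_le_comap]
    refine iSup_le fun i => map_le_iff_le_comap.1 ?_
    obtain ⟨k, hk⟩ := hs.perm t ht i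
    exact hk.trans (le_iSup E k)
  have h2 : g⁻¹ ∈ normalizer (N : Set H) := htop ▸ mem_top _
  have h3 := cnj_mono g⁻¹ h1
  rw [cnj_cnj, inv_mul_cancel, cnj_one] at h3
  exact h3.trans (mem_normalizer_iff_map_conj_eq.1 h2).le

/-- **The structure theorem.** -/
theorem exists_blocks (hexp : ∀ v : V, p • v = 0) (h : Hyp p H) {A : Subgroup H} (hA : Elem p A)
    (hA0 : A ≠ ⊥) (hm : Nat.card V ≤ meas V A) (T : Sylow p H) :
    ∃ (r : ℕ) (E : Fin r → Subgroup H), Blocks p V (T : Subgroup H) E := by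
  have hc := Std.of_moved hexp h (moved_of_offender hexp h hA hA0 hm)
  obtain ⟨A₁, -, hA₁⟩ := exists_mem hA hA0 ((hc.tame.bound A hA).antisymm hm) hc.tame.bound
  obtain ⟨A₀, hA₀⟩ := hc.nonempty_members hA₁ T
  obtain ⟨M, hM, hTM⟩ := h.exists_umax T
  by_cases h2 : 2 < Nat.card A₀
  · obtain ⟨E, hs, hmod, hle, hmem⟩ := exists_split_large hc hM hTM hA₀ h2
    have : Nonempty ↥(members p V (T : Subgroup H)) := ⟨⟨A₀, hA₀⟩⟩
    have : Finite ↥(members p V (T : Subgroup H)) := Subtype.finite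
    exact blocks_of_split hs (fun i => Or.inl (hmod i)) hle hmem
  · have hall : AllTwo p H V := fun X hX => by
      have h1 := hc.card_eq hX hA₀.1
      have h3 : Nat.card A₀ ≠ 1 := fun h' => hA₀.1.ne_bot (Subgroup.eq_bot_of_card_eq _ h')
      have h4 : 0 < Nat.card A₀ := Nat.card_pos
      omega
    obtain ⟨ι, _, _, E, hs, hmod, hle, hmem⟩ := exists_split_small hc hM hTM hA₀ hall
    exact blocks_of_split hs (fun i => Or.inr (hmod i)) hle hmem

end Cfsg.Agent.Lib.FFComp
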