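import Cfsg.Prelude.Def_BaumannBlocks
import Cfsg.Agent.Lib.FFComp.Main

/-!
# Reading blocks inside an ambient group
-/

set_option autoImplicit false
set_option linter.unusedSectionVars false

namespace Cfsg.Agent.Lib.FFComp

open Subgroup SL2Recog FFMin Matrix
open scoped Pointwise commutatorElement
open Cfsg.Agent.Lib.SL2 (SLtwo)

universe u

/-- The conclusion about a family of subgroups of `G` acting on `V`, modulo `C_G(V)`. -/
structure Outcome {G : Type u} [Group G] (p : ℕ) (V P T : Subgroup G) {r : ℕ}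
    (E : Fin r → Subgroup G) : Prop where
  pos : 1 ≤ r
  le : ∀ i, E i ≤ P
  ker_le : ∀ i, P ⊓ centralizer (V : Set G) ≤ E i
  comm : ∀ i j, i ≠ j → ⁅E i, E j⁆ ≤ centralizer (V : Set G)
  inf : ∀ i, E i ⊓ (⨆ j ∈ {j | j ≠ i}, E j) ≤ centralizer (V : Set G)
  top : (⨆ i, E i) ⊔ T = P
  conj : ∀ i j, ∃ t ∈ T, (E i).map (MulAut.conj t).toMonoidHom = E j
  decomp : (V ⊓ centralizer (((⨆ i, E i) : Subgroup G) : Set G)) ⊔ (⨆ i, ⁅V, E i⁆) = V
  comm3 : ∀ i j, i ≠ j → ⁅⁅V, E i⁆, E j⁆ = ⊥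
  model : ∀ i, ∃ n : ℕ, 1 ≤ n ∧ ((∃ (F : Type) (_ : Field F) (_ : Fintype F),
      Fintype.card F = p ^ n ∧ (∃ ρ : ↥(E i) →* SLtwo F, Function.Surjective ρ ∧
        ρ.ker = (centralizer (V : Set G)).subgroupOf (E i)) ∧
      Cfsg.ActsAsSL2OnSection F ⊤ (E i) ⁅V, E i⁆
        (⁅V, E i⁆ ⊓ centralizer ((E i : Subgroup G) : Set G))) ∨
    (p = 2 ∧ (∃ ρ : ↥(E i) →* Equiv.Perm (Fin (2 ^ n + 1)), Function.Surjective ρ ∧
        ρ.ker = (centralizer (V : Set G)).subgroupOf (E i)) ∧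
      Cfsg.ActsAsOddPermModuleOnSection (2 ^ n + 1) ⊤ (E i) ⁅V, E i⁆
        (⁅V, E i⁆ ⊓ centralizer ((E i : Subgroup G) : Set G))))

variable {G H W : Type u} [Group G] [Group H] [AddCommGroup W] [DistribMulAction H W]

/-- An action of `H` on `W` seen as conjugation of `P` on `V` inside `G`. -/
structure Rep (G H W : Type u) [Group G] [Group H] [AddCommGroup W] [DistribMulAction H W] where
  V : Subgroup G
  P : Subgroup G
  f : ↥P →* H
  surj : Function.Surjective f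
  j : Multiplicative W →* G
  inj : Function.Injective j
  range : j.range = V
  equiv : ∀ (g : ↥P) (w : W),
    j (Multiplicative.ofAdd (f g • w)) = g * j (Multiplicative.ofAdd w) * (g : G)⁻¹

namespace Rep

variable (R : Rep G H W)

/-- The subgroup of `G` corresponding to a subgroup of `W`. -/
def emb (U : AddSubgroup W) : Subgroup G := U.toSubgroup.map R.j

/-- The subgroup of `G` corresponding to a subgroup of `H`. -/
def lift (E : Subgroup H) : Subgroup G := (E.comap R.f).map R.P.subtype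

theorem lift_le (E : Subgroup H) : R.lift E ≤ R.P := map_subtype_le _

theorem mem_lift {E : Subgroup H} {g : ↥R.P} : (g : G) ∈ R.lift E ↔ R.f g ∈ E := by
  constructor
  · rintro ⟨x, hx, he⟩
    exact (Subtype.ext he : x = g) ▸ hx
  · exact fun h => ⟨g, h, rfl⟩

theorem j_mem (w : W) : R.j (Multiplicative.ofAdd w) ∈ R.V := R.range ▸ ⟨_, rfl⟩

theorem exists_eq {v : G} (hv : v ∈ R.V) : ∃ w : W, R.j (Multiplicative.ofAdd w) = v := by
  rw [← R.range] at hv
  obtain ⟨w, rfl⟩ := hv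
  exact ⟨w.toAdd, rfl⟩

theorem mem_emb {U : AddSubgroup W} {w : W} :
    R.j (Multiplicative.ofAdd w) ∈ R.emb U ↔ w ∈ U := by
  constructor
  · rintro ⟨x, hx, he⟩
    obtain rfl := R.inj he
    exact hx
  · exact fun h => ⟨_, h, rfl⟩

theorem emb_le (U : AddSubgroup W) : R.emb U ≤ R.V := by
  rintro _ ⟨x, -, rfl⟩
  exact R.j_mem x.toAdd

theorem emb_sup (U U' : AddSubgroup W) : R.emb (U ⊔ U') = R.emb U ⊔ R.emb U' := by
  rw [emb, emb, emb, ← Subgroup.map_sup]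
  exact congrArg _ (AddSubgroup.toSubgroup.map_sup U U')

theorem emb_iSup {ι : Type*} (U : ι → AddSubgroup W) : R.emb (⨆ i, U i) = ⨆ i, R.emb (U i) := by
  simp only [emb]
  rw [← Subgroup.map_iSup]
  exact congrArg _ (AddSubgroup.toSubgroup.map_iSup U)

theorem emb_top : R.emb (⊤ : AddSubgroup W) = R.V := by
  refine le_antisymm (R.emb_le _) fun v hv => ?_
  obtain ⟨w, rfl⟩ := R.exists_eq hv
  exact R.mem_emb.2 (AddSubgroup.mem_top w)

theorem conj_j (g : ↥R.P) (w : W) :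
    (g : G) * R.j (Multiplicative.ofAdd w) * (g : G)⁻¹ = R.j (Multiplicative.ofAdd (R.f g • w)) :=
  (R.equiv g w).symm

theorem commutator_j (g : ↥R.P) (w : W) :
    R.j (Multiplicative.ofAdd (dev (R.f g) w)) =
      (g : G) * R.j (Multiplicative.ofAdd w) * (g : G)⁻¹ * (R.j (Multiplicative.ofAdd w))⁻¹ := by
  rw [R.conj_j, dev, ofAdd_sub, map_div, div_eq_mul_inv]

theorem smul_eq_iff (g : ↥R.P) (w : W) :
    R.f g • w = w ↔ (g : G) * R.j (Multiplicative.ofAdd w) = R.j (Multiplicative.ofAdd w) * g := by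
  rw [← mul_inv_eq_iff_eq_mul, R.conj_j]
  exact ⟨fun h => by rw [h], fun h => Multiplicative.ofAdd.injective (R.inj h)⟩

theorem emb_fx (E : Subgroup H) :
    R.emb (fx W E) = R.V ⊓ centralizer ((R.lift E : Subgroup G) : Set G) := by
  ext v
  constructor
  · intro hv
    obtain ⟨w, rfl⟩ := R.exists_eq (R.emb_le _ hv)
    refine ⟨R.j_mem w, mem_centralizer_iff.2 ?_⟩
    rintro _ ⟨g, hg, rfl⟩
    exact (R.smul_eq_iff g w).1 (R.mem_emb.1 hv _ hg)
  · rintro ⟨hv, hc⟩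
    obtain ⟨w, rfl⟩ := R.exists_eq hv
    refine R.mem_emb.2 fun e he => ?_
    obtain ⟨g, rfl⟩ := R.surj e
    exact (R.smul_eq_iff g w).2 (mem_centralizer_iff.1 hc _ (R.mem_lift.2 he))

theorem emb_devSpan (E : Subgroup H) : R.emb (devSpan W E) = ⁅R.V, R.lift E⁆ := by
  refine le_antisymm ?_ (commutator_le.2 fun v hv e he => ?_)
  · have hle : devSpan W E ≤ Subgroup.toAddSubgroup ((⁅R.V, R.lift E⁆).comap R.j) := by
      refine (AddSubgroup.closure_le _).2 ?_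
      rintro _ ⟨e, he, w, rfl⟩
      obtain ⟨g, rfl⟩ := R.surj e
      show R.j (Multiplicative.ofAdd (dev (R.f g) w)) ∈ ⁅R.V, R.lift E⁆
      rw [R.commutator_j, Subgroup.commutator_comm]
      exact commutator_mem_commutator (R.mem_lift.2 he) (R.j_mem w)
    rintro _ ⟨x, hx, rfl⟩
    exact hle hx
  · obtain ⟨w, rfl⟩ := R.exists_eq hv
    obtain ⟨g, hg, rfl⟩ := he
    show ⁅R.j (Multiplicative.ofAdd w), (g : G)⁆ ∈ _
    rw [← commutatorElement_inv, commutatorElement_def, ← R.commutator_j]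
    exact inv_mem (R.mem_emb.2 (dev_mem_devSpan (show R.f g ∈ E from hg) w))

variable [FaithfulSMul H W]

theorem ker_eq (g : ↥R.P) : R.f g = 1 ↔ (g : G) ∈ centralizer (R.V : Set G) := by
  constructor
  · intro h
    refine mem_centralizer_iff.2 fun v hv => ?_
    obtain ⟨w, rfl⟩ := R.exists_eq hv
    exact ((R.smul_eq_iff g w).1 (by rw [h, one_smul])).symm
  · intro h
    refine eq_of_smul_eq_smul fun w : W => ?_
    rw [one_smul, R.smul_eq_iff]
    exact (mem_centralizer_iff.1 h _ (R.j_mem w)).symm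

theorem ker_le_lift (E : Subgroup H) : R.P ⊓ centralizer (R.V : Set G) ≤ R.lift E := fun g hg =>
  (R.mem_lift (g := ⟨g, hg.1⟩)).2 (by rw [(R.ker_eq ⟨g, hg.1⟩).2 hg.2]; exact one_mem E)

theorem map_lift_eq (E : Subgroup H) : ((R.lift E).subgroupOf R.P).map R.f = E := by
  rw [lift, subgroupOf, comap_map_eq_self_of_injective R.P.subtype_injective,
    map_comap_eq_self_of_surjective R.surj]

/-- The map from a lifted subgroup onto the subgroup. -/
def proj (E : Subgroup H) : ↥(R.lift E) →* ↥E where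
  toFun e := ⟨R.f ⟨e, R.lift_le E e.2⟩, (R.mem_lift (g := ⟨e, R.lift_le E e.2⟩)).1 e.2⟩
  map_one' := Subtype.ext (map_one R.f)
  map_mul' a b := Subtype.ext
    (map_mul R.f ⟨a, R.lift_le E a.2⟩ ⟨b, R.lift_le E b.2⟩)

theorem proj_surjective (E : Subgroup H) : Function.Surjective (R.proj E) := by
  rintro ⟨h, hh⟩
  obtain ⟨g, rfl⟩ := R.surj h
  exact ⟨⟨g, R.mem_lift.2 hh⟩, rfl⟩

theorem ker_comp_proj {E : Subgroup H} {K : Type*} [Group K] (ρ : ↥E ≃* K) :
    (ρ.toMonoidHom.comp (R.proj E)).ker = (centralizer (R.V : Set G)).subgroupOf (R.lift E) := by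
  ext e
  rw [MonoidHom.mem_ker, MonoidHom.comp_apply, MulEquiv.coe_toMonoidHom, MulEquiv.map_eq_one_iff,
    mem_subgroupOf, ← R.ker_eq ⟨(e : G), R.lift_le E e.2⟩]
  exact ⟨fun h => congrArg Subtype.val h, fun h => Subtype.ext h⟩

/-- A function on `V` from one on `W`. -/
noncomputable def coord {M : Type*} [AddCommGroup M] (π : W →+ M) (U : Subgroup G) (hU : U ≤ R.V) :
    ↥U →* Multiplicative M :=
  (π.toMultiplicative.comp
    (MonoidHom.ofInjective R.inj).symm.toMonoidHom).comp (Subgroup.inclusion (R.range.symm ▸ hU))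

theorem coord_eq {M : Type*} [AddCommGroup M] (π : W →+ M) {U : Subgroup G} (hU : U ≤ R.V)
    (u : ↥U) {w : W} (hw : R.j (Multiplicative.ofAdd w) = u) :
    Multiplicative.toAdd (R.coord π U hU u) = π w := by
  have h1 : MonoidHom.ofInjective R.inj (Multiplicative.ofAdd w) =
      Subgroup.inclusion (R.range.symm ▸ hU) u := Subtype.ext hw
  show Multiplicative.toAdd (π.toMultiplicative
    ((MonoidHom.ofInjective R.inj).symm (Subgroup.inclusion (R.range.symm ▸ hU) u))) = π w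
  rw [← h1, MulEquiv.symm_apply_apply]
  rfl

theorem section_data {E : Subgroup H} {M : Type*} [AddCommGroup M] (π : W →+ M)
    (hker : ∀ w, π w = 0 ↔ w ∈ fx W E) (hspan : fx W E ⊔ devSpan W E = ⊤) :
    R.lift E ≤ normalizer ((⁅R.V, R.lift E⁆ : Subgroup G) : Set G) ∧
    ∃ hU : ⁅R.V, R.lift E⁆ ≤ R.V,
      (∀ w, ∃ u, Multiplicative.toAdd (R.coord π _ hU u) = π w) ∧
      (∀ u : ↥⁅R.V, R.lift E⁆, R.coord π _ hU u = 1 ↔
        (u : G) ∈ ⁅R.V, R.lift E⁆ ⊓ centralizer ((R.lift E : Subgroup G) : Set G)) ∧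
      ∀ (e : ↥(R.lift E)) (u : ↥⁅R.V, R.lift E⁆), ∃ (u' : ↥⁅R.V, R.lift E⁆) (w : W),
        (u' : G) = (e : G) * u * (e : G)⁻¹ ∧ Multiplicative.toAdd (R.coord π _ hU u) = π w ∧
        Multiplicative.toAdd (R.coord π _ hU u') = π ((R.proj E e : H) • w) := by
  have hinv : ∀ g : ↥R.P, R.f g ∈ E → ∀ x ∈ ⁅R.V, R.lift E⁆,
      (g : G) * x * (g : G)⁻¹ ∈ ⁅R.V, R.lift E⁆ := by
    intro g hg x hx
    rw [← R.emb_devSpan] at hx ⊢
    obtain ⟨w, rfl⟩ := R.exists_eq (R.emb_le _ hx)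
    rw [R.conj_j, R.mem_emb, smul_eq]
    exact add_mem (R.mem_emb.1 hx) (dev_mem_devSpan hg w)
  refine ⟨fun e he => mem_normalizer_iff.2 fun x => ?_, R.emb_devSpan E ▸ R.emb_le _, fun w => ?_,
    fun u => ?_, fun e u => ?_⟩
  · have heP := R.lift_le E he
    have hf : R.f ⟨e, heP⟩ ∈ E := (R.mem_lift (g := ⟨e, heP⟩)).1 he
    refine ⟨hinv ⟨e, heP⟩ hf x, fun hx => ?_⟩
    have h1 := hinv ⟨e, heP⟩⁻¹ (by rw [map_inv]; exact inv_mem hf) _ hx
    simpa [mul_assoc] using h1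
  · obtain ⟨y, hy, z, hz, rfl⟩ := AddSubgroup.mem_sup.1 (hspan ▸ AddSubgroup.mem_top w)
    refine ⟨⟨R.j (Multiplicative.ofAdd z), R.emb_devSpan E ▸ R.mem_emb.2 hz⟩, ?_⟩
    rw [R.coord_eq π _ _ rfl, map_add, (hker y).2 hy, zero_add]
  · obtain ⟨w, hw⟩ := R.exists_eq ((R.emb_devSpan E ▸ R.emb_le _ : ⁅R.V, R.lift E⁆ ≤ R.V) u.2)
    rw [← toAdd_eq_zero, R.coord_eq π _ u hw, hker]
    refine ⟨fun h => ⟨u.2, ?_⟩, fun h => ?_⟩
    · exact hw ▸ (R.emb_fx E ▸ R.mem_emb.2 h :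
        R.j (Multiplicative.ofAdd w) ∈ R.V ⊓ centralizer ((R.lift E : Subgroup G) : Set G)).2
    · exact R.mem_emb.1 (R.emb_fx E ▸ ⟨R.j_mem w, hw.symm ▸ h.2⟩)
  · obtain ⟨w, hw⟩ := R.exists_eq ((R.emb_devSpan E ▸ R.emb_le _ : ⁅R.V, R.lift E⁆ ≤ R.V) u.2)
    refine ⟨⟨(e : G) * u * (e : G)⁻¹,
      hinv ⟨e, R.lift_le E e.2⟩ ((R.mem_lift (g := ⟨e, R.lift_le E e.2⟩)).1 e.2) _ u.2⟩, w, rfl,
      R.coord_eq π _ u hw, R.coord_eq π _ _ ?_⟩
    show R.j _ = (e : G) * u * (e : G)⁻¹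
    rw [← hw]
    exact R.equiv ⟨(e : G), R.lift_le E e.2⟩ w

theorem map_lift (t : ↥R.P) (E : Subgroup H) :
    (R.lift E).map (MulAut.conj (t : G)).toMonoidHom = R.lift (cnj (R.f t) E) := by
  ext x
  constructor
  · rintro ⟨_, ⟨g, hg, rfl⟩, rfl⟩
    exact ⟨t * g * t⁻¹, ⟨R.f g, hg, by simp⟩, rfl⟩
  · rintro ⟨g, ⟨e, he, hge⟩, rfl⟩
    refine ⟨_, ⟨t⁻¹ * g * t, ?_, rfl⟩, ?_⟩
    · show R.f (t⁻¹ * g * t) ∈ E
      rw [map_mul, map_mul, map_inv, ← hge]
      simpa [mul_assoc] using he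
    · simp [mul_assoc]

theorem lift_iSup {ι : Type*} [Nonempty ι] (E : ι → Subgroup H) :
    R.lift (⨆ i, E i) = ⨆ i, R.lift (E i) := by
  simp only [lift]
  rw [← Subgroup.map_iSup]
  congr 1
  refine (Subgroup.map_injective_of_ker_le R.f ?_ ?_ ?_).symm
  · exact le_iSup_of_le (Classical.arbitrary ι) (fun x hx => by
      rw [mem_comap, MonoidHom.mem_ker.1 hx]; exact one_mem _)
  · intro x hx
    rw [mem_comap, MonoidHom.mem_ker.1 hx]
    exact one_mem _
  · rw [Subgroup.map_iSup, map_comap_eq_self_of_surjective R.surj]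
    exact iSup_congr fun i => map_comap_eq_self_of_surjective R.surj _

/-- Translation of the blocks into `G`. -/
theorem outcome {p r : ℕ} {T : Subgroup H} {E : Fin r → Subgroup H}
    (hb : Blocks p W T E) {T' : Subgroup G} (hT : T' ≤ R.P) (hTT : (T'.subgroupOf R.P).map R.f = T) :
    Outcome p R.V R.P T' (fun i => R.lift (E i)) := by
  have : Nonempty (Fin r) := ⟨⟨0, hb.pos⟩⟩
  have hcom : ∀ i j, i ≠ j → ⁅R.lift (E i), R.lift (E j)⁆ ≤ centralizer (R.V : Set G) := by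
    intro i j hij
    rw [commutator_le]
    rintro _ ⟨a, ha, rfl⟩ _ ⟨b, hb', rfl⟩
    refine (R.ker_eq ⁅a, b⁆).1 ?_
    rw [map_commutatorElement, commutatorElement_eq_one_iff_mul_comm]
    exact hb.split.comm hij _ ha _ hb'
  refine ⟨hb.pos, fun i => R.lift_le _, fun i => R.ker_le_lift _, hcom, fun i => ?_, ?_,
    fun i j => ?_, ?_, fun i j hij => ?_, fun i => ?_⟩
  · intro x hx
    have hxP := R.lift_le _ hx.1
    refine (R.ker_eq ⟨x, hxP⟩).1 ((Subgroup.eq_bot_iff_forall _).1 (hb.split.inf_eq_bot i) _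
      ⟨(R.mem_lift (g := ⟨x, hxP⟩)).1 hx.1, ?_⟩)
    have hle : (⨆ j ∈ {j | j ≠ i}, R.lift (E j)) ≤ R.lift (⨆ j ∈ {j | j ≠ i}, E j) :=
      iSup₂_le fun j hj => map_mono (comap_mono (le_iSup₂_of_le j hj le_rfl))
    exact (R.mem_lift (g := ⟨x, hxP⟩)).1 (hle hx.2)
  · rw [← R.lift_iSup]
    refine le_antisymm (sup_le (R.lift_le _) hT) fun x hx => ?_
    have hle : ((R.lift (⨆ i, E i)) ⊔ T').subgroupOf R.P = ⊤ := by
      have hk : R.f.ker ≤ ((R.lift (⨆ i, E i)) ⊔ T').subgroupOf R.P := fun k hk =>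
        mem_sup_left (R.mem_lift.2 (by rw [MonoidHom.mem_ker.1 hk]; exact one_mem _))
      rw [← comap_map_eq_self hk, subgroupOf_sup (R.lift_le _) hT, Subgroup.map_sup, R.map_lift_eq, hTT,
        hb.split.top, comap_top]
    exact mem_subgroupOf.1 (hle ▸ mem_top (⟨x, hx⟩ : R.P))
  · obtain ⟨t, ht, he⟩ := hb.split.conj i j
    rw [← hTT] at ht
    obtain ⟨t', ht', rfl⟩ := ht
    exact ⟨t', ht', (R.map_lift t' _).trans (congrArg R.lift he)⟩
  · rw [← R.lift_iSup, ← R.emb_fx]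
    simp only [← R.emb_devSpan]
    rw [← R.emb_iSup, ← R.emb_sup, hb.split.decomp, R.emb_top]
  · rw [← R.emb_devSpan, commutator_eq_bot_iff_le_centralizer]
    intro v hv
    obtain ⟨w, rfl⟩ := R.exists_eq (R.emb_le _ hv)
    have h1 : R.j (Multiplicative.ofAdd w) ∈ R.V ⊓ centralizer ((R.lift (E j) : Subgroup G) : Set G) :=
      R.emb_fx (E j) ▸ R.mem_emb.2 (devSpan_le (hb.split.orth i j hij) (R.mem_emb.1 hv))
    exact h1.2
  · rcases hb.model i with hSL | hPerm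
    · obtain ⟨n, hn, F, hF1, hF2, hcard, ρ, π, hπ, hker, heq⟩ := hSL
      obtain ⟨hnorm, hU, hsur, hone, hact⟩ := R.section_data π hker (hb.split.span i)
      refine ⟨n, hn, Or.inl ⟨F, hF1, hF2, hcard, ⟨ρ.toMonoidHom.comp (R.proj _),
        ρ.surjective.comp (R.proj_surjective _), R.ker_comp_proj ρ⟩, hnorm, inf_le_left,
        ρ.toMonoidHom.comp (R.proj _), R.coord π _ hU,
        MonoidHom.range_eq_top.2 (ρ.surjective.comp (R.proj_surjective _)), fun x => ?_, hone,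
        fun e u => ?_⟩⟩
      · obtain ⟨w, hw⟩ := hπ x.toAdd
        obtain ⟨u, hu⟩ := hsur w
        exact ⟨u, Multiplicative.toAdd.injective (hu.trans hw)⟩
      · obtain ⟨u', w, h1, h2, h3⟩ := hact e u
        refine ⟨u', h1, ?_⟩
        rw [h3, heq, h2]
        rfl
    · obtain ⟨hp, n, hn, ρ, π, hsum, him, hker, heq⟩ := hPerm
      obtain ⟨hnorm, hU, hsur, hone, hact⟩ := R.section_data π hker (hb.split.span i)
      refine ⟨n, hn, Or.inr ⟨hp, ⟨ρ.toMonoidHom.comp (R.proj _),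
        ρ.surjective.comp (R.proj_surjective _), R.ker_comp_proj ρ⟩, hnorm, inf_le_left,
        ρ.toMonoidHom.comp (R.proj _), R.coord π _ hU,
        MonoidHom.range_eq_top.2 (ρ.surjective.comp (R.proj_surjective _)), fun u => ?_,
        fun x hx => ?_, hone, fun e u => ?_⟩⟩
      · obtain ⟨_, w, -, h2, -⟩ := hact 1 u
        rw [h2]
        exact hsum w
      · obtain ⟨w, hw⟩ := him x hx
        obtain ⟨u, hu⟩ := hsur w
        exact ⟨u, hu.trans hw⟩
      · obtain ⟨u', w, h1, h2, h3⟩ := hact e u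
        refine ⟨u', h1, fun k => ?_⟩
        rw [h3, heq, h2]
        rfl

end Rep

end Cfsg.Agent.Lib.FFComp
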