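import Cfsg.Agent.Lib.FFComp.Main

/-!
# All offenders are generated by members

An elementary abelian subgroup of measure `|V|` acts quadratically, so it is generated by members.
-/

set_option autoImplicit false
set_option linter.unusedSectionVars false

namespace Cfsg.Agent.Lib.FFComp

open Subgroup SL2Recog FFMin
open scoped Pointwise

universe u

variable {H V : Type u} [Group H] [AddCommGroup V] [DistribMulAction H V] {p : ℕ}
  [Finite H] [Finite V] [FaithfulSMul H V] [Fact p.Prime]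

/-- An element of `T` centralising a member `D` fixes the commutator spaces of `D` and maps the
commutator spaces of its partner `B` into fixed points of everything centralising `D` in `T`. -/
theorem Part.centralizing (hc : Std p H V) {T : Sylow p H} {M : Subgroup H} (hM : UMax p M)
    (hTM : (T : Subgroup H) ≤ M) {D B : Subgroup H} (hD : D ∈ members p V (T : Subgroup H))
    (h : Part p V (T : Subgroup H) M D B) {a : H} (ha : a ∈ (T : Subgroup H))
    (hcomm : ∀ d ∈ D, a * d = d * a) :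
    (∀ d ∈ D, ∀ v : V, a • dev d v = dev d v) ∧
      ∀ b ∈ B, ∀ v : V, ∃ d ∈ D, dev a (dev b v) = dev d (dev b v) := by
  have hp := h.oppPair hc hM hTM hD
  have haD : cnj a D = D := by
    ext x
    rw [mem_cnj]
    constructor
    · intro hx
      have e : x = a⁻¹ * x * a := by
        calc x = a * (a⁻¹ * x * a) * a⁻¹ := by group
          _ = a⁻¹ * x * a := by rw [hcomm _ hx, mul_inv_cancel_right]
      exact e ▸ hx
    · intro hx
      rwa [mul_assoc, ← hcomm x hx, inv_mul_cancel_left]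
  have hsl := inSlot_cnj ha h.slot
  rw [haD] at hsl
  obtain ⟨a₀, ha₀, hae⟩ := h.eq_translate hc hM hTM hD hsl fun he => h.not_le (by
    rw [map_injective (f := (MulAut.conj a).toMonoidHom) (MulAut.conj a).injective
      (he.trans haD.symm)]
    exact hD.2.trans hTM)
  set x := a₀⁻¹ * a with hxdef
  have hxT : x ∈ (T : Subgroup H) := mul_mem (inv_mem (hD.2 ha₀)) ha
  have hxB : cnj x B = B := by
    rw [hxdef, ← cnj_cnj, hae, cnj_cnj, inv_mul_cancel, cnj_one]
  have hxD : ∀ d ∈ D, x * d = d * x := fun d hd => by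
    rw [hxdef, mul_assoc, hcomm d hd, ← mul_assoc, hD.1.elem.comm _ (inv_mem ha₀) d hd, mul_assoc]
  have hxn : x ∈ normalizer (D : Set H) := by
    refine mul_mem (inv_mem (le_normalizer ha₀)) ?_
    exact mem_normalizer_iff_map_conj_eq.2 haD
  have hxU : ∀ u ∈ fx V D ⊓ fx V B, x • u ∈ fx V D ⊓ fx V B := fun u hu =>
    ⟨smul_mem_fx hxn hu.1, OppPair.fx_norm hxB hu.2⟩
  obtain ⟨d₀, hd₀, hd₀1⟩ := exists_ne_one hD.1.ne_bot
  -- a fixed vector among the commutators
  obtain ⟨v₀, hv₀, hv₀x⟩ : ∃ v₀ : V, v₀ ∉ fx V D ∧ dev x v₀ ∈ fx V D := by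
    obtain ⟨v, hv, hvx⟩ := exists_fix_mod hc.tame.exp
      (P := Subgroup.zpowers x) (T.2.to_le (Subgroup.zpowers_le.2 hxT)) (U := fx V D)
      (fun he => by
        obtain ⟨u, hu⟩ := exists_notMem_fx (V := V) hD.1.ne_bot
        exact hu (he ▸ AddSubgroup.mem_top u))
      (fun y hy u hu => smul_mem_fx ((Subgroup.zpowers_le.2 hxn) hy) hu)
    exact ⟨v, hv, hvx x (Subgroup.mem_zpowers x)⟩
  have hfix₀ : ∀ d ∈ D, x • dev d v₀ = dev d v₀ := fun d hd => by
    rw [smul_dev, hxD d hd, mul_inv_cancel_right, smul_eq x v₀, dev_add, dev_eq_zero hd hv₀x,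
      add_zero]
  -- these vectors cover the fixed points of `D` modulo the common ones
  set U := fx V D ⊓ fx V B with hU
  let g : ↥D → V ⧸ U := fun d => (dev (d : H) v₀ : V)
  have hinj : Function.Injective g := by
    intro d d' he
    by_contra hne
    set c : H := (d' : H)⁻¹ * d with hcdef
    have hcD : c ∈ D := mul_mem (inv_mem d'.2) d.2
    have hc1 : c ≠ 1 := fun h1 => hne (Subtype.ext (inv_mul_eq_one.1 h1).symm)
    refine hv₀ (hp.opp c hcD hc1 v₀ ?_)
    have e : dev (d : H) v₀ = dev (d' : H) v₀ + dev c v₀ := by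
      rw [← dev_mul_mem hc.tame hD.1 d'.2 hcD, hcdef, mul_inv_cancel_left]
    have h1 := (QuotientAddGroup.eq.1 he.symm)
    rw [e, neg_add_cancel_left] at h1
    exact h1.2
  have hfixA : ∀ y ∈ fx V D, dev x y ∈ U := by
    intro y hy
    have hP : Nat.card ↥((fx V D).map (QuotientAddGroup.mk' U)) = Nat.card D := by
      have h1 := card_map_mul_add (fx V D) (QuotientAddGroup.mk' U)
      rw [QuotientAddGroup.ker_mk', inf_eq_right.2 (inf_le_left : U ≤ fx V D),
        hc.card_fx_eq hD.1 h.slot.mem, ← hp.card_inf hc] at h1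
      exact (Nat.eq_of_mul_eq_mul_right Nat.card_pos h1).symm
    let g' : ↥D → ↥((fx V D).map (QuotientAddGroup.mk' U)) := fun d =>
      ⟨g d, ⟨dev (d : H) v₀, hD.1.quad hc.tame.exp d d.2 v₀, rfl⟩⟩
    obtain ⟨d, hd⟩ := (Function.Injective.bijective_of_nat_card_le
      (f := g') (fun d d' he => hinj (congrArg Subtype.val he)) hP.le).2 ⟨_, ⟨y, hy, rfl⟩⟩
    have h1 := QuotientAddGroup.eq.1 (congrArg Subtype.val hd)
    have e : dev x y = dev x (-dev (d : H) v₀ + y) + dev x (dev (d : H) v₀) := by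
      rw [← dev_add, neg_add_eq_sub, sub_add_cancel]
    rw [e, dev_eq_zero_iff.2 (hfix₀ d d.2), add_zero]
    exact sub_mem (hxU _ h1) h1
  have hrange : ∀ d ∈ D, ∀ v : V, dev x (dev d v) = 0 := by
    intro d hd v
    rcases eq_or_ne d 1 with rfl | hd1
    · rw [dev_one, dev_zero]
    have h1 := hfixA _ (hD.1.quad hc.tame.exp d hd v)
    rw [dev_comm (hxD d hd)] at h1 ⊢
    exact dev_eq_zero hd (hp.opp d hd hd1 _ h1.2)
  have hdx : ∀ v : V, dev x v ∈ U := by
    intro v
    have h1 : ∀ w : V, dev x w ∈ fx V D := fun w => (hc.tame.fx_eq hD.1 hd₀ hd₀1).2 (by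
      rw [← dev_comm (hxD d₀ hd₀)]
      exact hrange d₀ hd₀ w)
    obtain ⟨y, hy, w, hw, rfl⟩ := AddSubgroup.mem_sup.1 (hp.sup_eq_top hc ▸ AddSubgroup.mem_top v)
    rw [dev_add]
    exact add_mem (hfixA y hy) ⟨h1 w, (fx V B).sub_mem (OppPair.fx_norm hxB hw) hw⟩
  have hxb : ∀ b ∈ B, x * b = b * x := by
    intro b hb
    have hb' : x * b * x⁻¹ ∈ B := hxB ▸ mem_map_of_mem _ hb
    set c := b⁻¹ * (x * b * x⁻¹) with hcdef
    have hcB : c ∈ B := mul_mem (inv_mem hb) hb'
    have hc0 : c = 1 := by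
      by_contra hc1
      refine hc1 (eq_one_of_dev fun v : V => dev_eq_zero hcB (hp.opp' c hcB hc1 v ?_))
      have hu : dev x⁻¹ v ∈ U := by
        rw [dev_inv]
        exact neg_mem (hdx _)
      have e1 : dev (x * b * x⁻¹) v = dev b v + dev x (dev b v) := by
        rw [← smul_eq, show dev b v = dev b (x⁻¹ • v) from by
          rw [smul_eq x⁻¹ v, dev_add, dev_eq_zero hb hu.2, add_zero], smul_dev, smul_inv_smul]
      rw [show x * b * x⁻¹ = b * c by rw [hcdef, mul_inv_cancel_left],
        dev_mul_mem hc.tame hp.right hb hcB] at e1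
      exact add_left_cancel e1 ▸ (hdx _).1
    rw [hcdef, inv_mul_eq_one, eq_comm] at hc0
    exact mul_inv_eq_iff_eq_mul.1 hc0
  have ha_eq : a = a₀ * x := by rw [hxdef, mul_inv_cancel_left]
  refine ⟨fun d hd v => ?_, fun b hb v => ⟨a₀, ha₀, ?_⟩⟩
  · rw [ha_eq, mul_smul, dev_eq_zero_iff.1 (hrange d hd v)]
    exact hD.1.quad hc.tame.exp d hd v a₀ ha₀
  · have h1 : x • dev b v = dev b v := by
      rw [← dev_eq_zero_iff, dev_comm (hxb b hb)]
      exact dev_eq_zero hb (hdx v).2
    rw [ha_eq, dev_mul, dev_eq_zero_iff.2 h1, smul_zero, zero_add]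

/-- **Every offender is quadratic.** -/
theorem Std.quad_of_meas (hc : Std p H V) (hG : Gen p H V) {A : Subgroup H} (hA : Elem p A)
    (hm : meas V A = Nat.card V) : Quad V A := by
  suffices hn : ∀ k, ∀ A : Subgroup H, Nat.card A = k → Elem p A → meas V A = Nat.card V →
      Quad V A from hn _ A rfl hA hm
  intro k
  induction k using Nat.strong_induction_on with
  | _ k ih =>
  intro A hk hA hm
  rcases eq_or_ne A ⊥ with rfl | hA0
  · intro a ha v
    rw [mem_bot.1 ha, dev_one]
    exact zero_mem _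
  set B := memSup p V A with hB
  have hBA : B ≤ A := sSup_le fun _ hD => hD.2
  obtain ⟨hBe, hBm⟩ := hc.tame.memSup (T := A) hA.isPGroup
  by_cases hBeq : B = A
  · exact hBeq ▸ hc.tame.memSup_quad (T := A) hA.isPGroup
  obtain ⟨T, hAT⟩ := hA.isPGroup.exists_le_sylow
  obtain ⟨M, hM, hTM⟩ := hc.hyp.exists_umax T
  set U := fx V B with hUdef
  have hAU : ∀ a ∈ A, ∀ u ∈ U, a • u ∈ U := fun a ha u hu b hb => by
    rw [← mul_smul, hA.comm b (hBA hb) a ha, mul_smul, hu b hb]
  -- `A` acts quadratically on `U`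
  set r := resMap A U hAU with hr
  have : Finite ↥(resAct A U hAU).range := Finite.of_surjective _ resMap_surjective
  have hker : r.ker = B.subgroupOf A := by
    refine le_antisymm (fun x hx => ?_) fun x hx => (mem_ker_resMap x).2 fun u hu => hu _ hx
    set K := r.ker.map A.subtype with hK
    have hBK : B ≤ K := fun b hb =>
      ⟨⟨b, hBA hb⟩, (mem_ker_resMap _).2 fun u hu => hu b hb, rfl⟩
    have hKU : U ≤ fx V K := by
      rintro u hu _ ⟨y, hy, rfl⟩
      exact (mem_ker_resMap y).1 hy u hu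
    have h1 := hc.tame.bound K (hA.mono (map_subtype_le _))
    have h2 : Nat.card K * Nat.card U ≤ Nat.card B * Nat.card U :=
      ((Nat.mul_le_mul_left _ (AddSubgroup.card_le_of_le hKU)).trans h1).trans hBm.ge
    have h3 := eq_of_le_of_card_ge hBK (Nat.le_of_mul_le_mul_right h2 Nat.card_pos)
    show (x : H) ∈ B
    rw [h3]
    exact mem_map_of_mem _ hx
  have hmV : ∀ Y : Subgroup ↥A, B.subgroupOf A ≤ Y →
      meas V (Y.map A.subtype) = Nat.card B * meas U (Y.map r) := by
    intro Y hY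
    have hBY : B ≤ Y.map A.subtype := fun b hb => ⟨⟨b, hBA hb⟩, hY hb, rfl⟩
    rw [meas, meas, card_fx_resMap, inf_eq_right.2 (fx_anti hBY), card_map_of_injective
      A.subtype_injective, card_map_mul Y r, hker, inf_eq_right.2 hY,
      Nat.card_congr (subgroupOfEquivOfLe hBA).toEquiv]
    ring
  have htopmap : (⊤ : Subgroup ↥A).map A.subtype = A := by
    rw [← MonoidHom.range_eq_map, Subgroup.range_subtype]
  have htopne : (⊤ : Subgroup ↥(resAct A U hAU).range) ≠ ⊥ := fun h0 => hBeq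
    (le_antisymm hBA fun a ha => by
      have h1 : r ⟨a, ha⟩ ∈ (⊥ : Subgroup ↥(resAct A U hAU).range) := h0 ▸ mem_top _
      exact (hker.le (MonoidHom.mem_ker.2 (mem_bot.1 h1)) : a ∈ B))
  obtain ⟨Y₁, hY₁0, hmax⟩ := Set.exists_max_image
    {Y : Subgroup ↥(resAct A U hAU).range | Y ≠ ⊥} (fun Y => meas U Y) (Set.toFinite _) ⟨⊤, htopne⟩
  obtain ⟨Y, ⟨hY0, hYm⟩, hmin⟩ := (wellFounded_lt (α := Subgroup ↥(resAct A U hAU).range)).has_min
    {Y | Y ≠ ⊥ ∧ meas U Y = meas U Y₁} ⟨Y₁, hY₁0, rfl⟩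
  have hstrict : ∀ Z : Subgroup ↥(resAct A U hAU).range, Z ≤ Y → Z ≠ ⊥ → Z ≠ Y →
      meas U Z < meas U Y := fun Z hZ h0 hne => lt_of_le_of_ne (hYm ▸ hmax Z h0)
    fun he => hmin Z ⟨h0, he.trans hYm⟩ (lt_of_le_of_ne hZ hne)
  set Y' := (Y.comap r).map A.subtype with hY'
  have hmapY : (Y.comap r).map r = Y := map_comap_eq_self_of_surjective resMap_surjective Y
  have hBY : B.subgroupOf A ≤ Y.comap r := hker.ge.trans (fun x hx => by
    rw [mem_comap, MonoidHom.mem_ker.1 hx]
    exact one_mem _)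
  have hmeasU : Nat.card B * meas U (⊤ : Subgroup ↥(resAct A U hAU).range) = Nat.card V := by
    rw [← map_top_of_surjective r resMap_surjective, ← hmV ⊤ le_top, htopmap, hm]
  have hYV : meas V Y' = Nat.card V := by
    refine le_antisymm (hc.tame.bound _ (hA.mono (map_subtype_le _))) ?_
    rw [hY', hmV _ hBY, hmapY, ← hmeasU]
    exact Nat.mul_le_mul_left _ (hYm ▸ hmax ⊤ htopne)
  have hYtop : Y' = A := by
    by_contra hne
    refine hY0 ?_
    have hlt : Nat.card Y' < k := by
      rw [← hk]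
      exact lt_of_le_of_ne (card_le_of_le (map_subtype_le _)) fun he =>
        hne (eq_of_le_of_card_ge (map_subtype_le _) he.ge)
    have hq := ih _ hlt Y' rfl (hA.mono (map_subtype_le _)) hYV
    have hle : Y' ≤ B := (hG Y' (hA.mono (map_subtype_le _)) hYV hq).trans
      (sSup_le fun D hD => le_sSup ⟨hD.1, hD.2.trans (map_subtype_le _)⟩)
    rw [← hmapY, Subgroup.map_eq_bot_iff, hker]
    exact fun x hx => hle (mem_map_of_mem _ hx)
  have hYall : Y = ⊤ := by
    have h1 : Y.comap r = ⊤ := map_injective A.subtype_injective (by rw [← hY', hYtop, htopmap])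
    rw [← hmapY, h1, map_top_of_surjective r resMap_surjective]
  have hUexp : ∀ u : U, p • u = 0 := fun u => Subtype.ext (hc.tame.exp u)
  have hquadU : ∀ a ∈ A, ∀ u ∈ U, dev a u ∈ fx V A := by
    intro a ha u hu
    have hel : Elem p (Y : Subgroup ↥(resAct A U hAU).range) := by
      rw [hYall, ← map_top_of_surjective r resMap_surjective]
      exact elem_map (htopmap.symm ▸ hA) r
    have hge : Nat.card U ≤ meas U Y := by
      have h1 := hmeasU
      rw [← hYall, ← hBm, meas] at h1
      exact (Nat.eq_of_mul_eq_mul_left Nat.card_pos h1).ge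
    have h1 := quadratic hUexp hel.comm hel.pow hge hstrict (a := r ⟨a, ha⟩)
      (hYall ▸ mem_top _) ⟨u, hu⟩
    rw [← hYtop, hY']
    exact mem_fx_resMap.1 (hmapY.symm ▸ h1)
  -- partners of the members in `A`
  have hmem : ∀ D ∈ members p V A, D ∈ members p V (T : Subgroup H) := fun D hD =>
    ⟨hD.1, hD.2.trans hAT⟩
  choose! P hP using fun D (hD : D ∈ members p V A) => exists_part hc hM hTM (hmem D hD)
  have hfixR : ∀ D ∈ members p V A, ∀ d ∈ D, ∀ v : V, dev d v ∈ fx V A := fun D hD d hd v a ha =>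
    ((hP D hD).centralizing hc hM hTM (hmem D hD) (hAT ha)
      fun e he => hA.comm a ha e (hD.2 he)).1 d hd v
  have hcov : ∀ S : Set (Subgroup H), S ⊆ members p V A → ∀ v : V, ∃ w : V,
      (∀ a ∈ A, dev a w ∈ fx V A) ∧ (∀ D ∈ S, v - w ∈ fx V D) := by
    intro S hS
    have hfin : S.Finite := Set.toFinite S
    induction S, hfin using Set.Finite.induction_on with
    | empty => exact fun v => ⟨0, fun a _ => by rw [dev_zero]; exact zero_mem _, by simp⟩
    | @insert D S hDS _ ih =>
      intro v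
      have hD := hS (Set.mem_insert D S)
      obtain ⟨w, hw, hvw⟩ := ih (fun F hF => hS (Set.mem_insert_of_mem D hF)) v
      have hp := (hP D hD).oppPair hc hM hTM (hmem D hD)
      obtain ⟨b, hb, hb1⟩ := exists_ne_one hp.right.ne_bot
      obtain ⟨_, ⟨y, rfl⟩, x, hx, he⟩ :=
        AddSubgroup.mem_sup.1 (hp.symm.range_sup hc hb hb1 ▸ AddSubgroup.mem_top (v - w))
      refine ⟨w + dev b y, fun a ha => ?_, fun F hF => ?_⟩
      · rw [dev_add]
        refine add_mem (hw a ha) ?_
        obtain ⟨d, hd, hde⟩ := ((hP D hD).centralizing hc hM hTM (hmem D hD) (hAT ha)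
          fun e he => hA.comm a ha e (hD.2 he)).2 b hb y
        exact hde ▸ hfixR D hD d hd _
      · rw [← sub_sub]
        rcases hF with rfl | hF
        · rw [← he, devHom_apply, add_sub_cancel_left]
          exact hx
        · have hFA := hS (Set.mem_insert_of_mem D hF)
          have hne : F ≠ D := fun h => hDS (h ▸ hF)
          exact sub_mem (hvw F hF) (hc.tame.dev_mem_fx hp.right hFA.1
            (fun h => (hP D hD).not_le (h ▸ (hmem F hFA).2.trans hTM))
            ((hP D hD).slot.comm F ⟨hmem F hFA, hne⟩) hb y)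
  intro a ha v
  obtain ⟨w, hw, hvw⟩ := hcov _ le_rfl v
  have e : dev a v = dev a w + dev a (v - w) := by rw [← dev_add, add_sub_cancel]
  rw [e]
  exact add_mem (hw a ha) (hquadU a ha _ (mem_fx_sSup hvw))

/-- Every offender is generated by members. -/
theorem le_sSup_members (hexp : ∀ v : V, p • v = 0) (h : Hyp p H) {A : Subgroup H} (hA : Elem p A)
    (hA0 : A ≠ ⊥) (hm : Nat.card V ≤ meas V A) :
    A ≤ sSup {D | Mem p V D ∧ D ≤ A} := by
  have hz := moved_of_offender hexp h hA hA0 hm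
  have hc := Std.of_moved hexp h hz
  have he := (hc.tame.bound A hA).antisymm hm
  have hG := ((main hexp h).2 hz).2.2
  exact hG A hA he (hc.quad_of_meas hG hA he)

end Cfsg.Agent.Lib.FFComp
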