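import Cfsg.Prelude.Def_Transfer
import Cfsg.Agent.Lib.FFComp.Bridge
import Cfsg.Agent.Lib.FFComp.Replace

/-!
# A subgroup acting by conjugation on an elementary abelian subgroup
-/

set_option autoImplicit false
set_option linter.unusedSectionVars false

namespace Cfsg.Agent.Lib.FFComp

open Subgroup SL2Recog FFMin
open scoped Pointwise commutatorElement

universe u

variable {G : Type u} [Group G] [Finite G] {p : ℕ}

/-- `A` is an elementary abelian offender on `V` modulo `C(V)`. -/
structure IsOff (p : ℕ) (V A : Subgroup G) : Prop where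
  comm : ⁅A, A⁆ ≤ centralizer (V : Set G)
  pow : ∀ a ∈ A, a ^ p ∈ centralizer (V : Set G)
  card : Nat.card ↥(A ⊓ centralizer (V : Set G)) * Nat.card V ≤
    Nat.card A * Nat.card ↥(V ⊓ centralizer (A : Set G))

theorem exists_outcome [Fact p.Prime] (V P : Subgroup G) (hV : Cfsg.IsElementaryAbelian p V)
    (hPV : P ≤ normalizer (V : Set G)) (T : Sylow p ↥P) (M : Subgroup ↥P) (hM : M ≠ ⊤)
    (hTM : (T : Subgroup ↥P) ≤ M)
    (hmax : ∀ L : Subgroup ↥P, L ≠ ⊤ → (T : Subgroup ↥P) ≤ L → L ≤ M)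
    (hkerM : (centralizer (V : Set G)).subgroupOf P ≤ M)
    (hnorm : ∀ N : Subgroup ↥P, N.Normal → N ≤ T → N ≤ (centralizer (V : Set G)).subgroupOf P)
    (A : Subgroup G) (hAP : A ≤ P) (hAV : ¬ A ≤ centralizer (V : Set G)) (hA : IsOff p V A) :
    ∃ (r : ℕ) (E : Fin r → Subgroup G),
      Outcome p V P ((T : Subgroup ↥P).map P.subtype) E ∧
      (∀ B : Subgroup G, B ≤ P → IsOff p V B → B ≤ ⨆ i, E i) ∧
      (∀ N : Subgroup ↥P, N.Normal → A.subgroupOf P ≤ N →
        (centralizer (V : Set G)).subgroupOf P ≤ N → (⨆ i, E i) ≤ N.map P.subtype) := by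
  classical
  letI instCV : CommGroup V := { (inferInstance : Group V) with
    mul_comm := fun a b => hV.1.is_comm.comm a b }
  have hmem : ∀ (g : ↥P) (v : V), (g : G) * (v : G) * (g : G)⁻¹ ∈ V := fun g v =>
    (Subgroup.mem_normalizer_iff.1 (hPV g.2) v).1 v.2
  let θ : ↥P →* (AddMonoid.End (Additive V))ˣ := MonoidHom.toHomUnits
    { toFun := fun g => AddMonoidHom.mk'
        (fun v => Additive.ofMul (⟨_, hmem g v.toMul⟩ : V)) fun v w =>
          Additive.toMul.injective (Subtype.ext (by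
            show (g : G) * (((v.toMul : V) : G) * (w.toMul : V)) * (g : G)⁻¹ =
              ((g : G) * (v.toMul : V) * (g : G)⁻¹) * ((g : G) * (w.toMul : V) * (g : G)⁻¹)
            simp [mul_assoc]))
      map_one' := AddMonoidHom.ext fun v => Additive.toMul.injective (Subtype.ext (by
        show ((1 : ↥P) : G) * (v.toMul : V) * ((1 : ↥P) : G)⁻¹ = (v.toMul : V)
        simp))
      map_mul' := fun g h => AddMonoidHom.ext fun v => Additive.toMul.injective (Subtype.ext (by
        show ((g * h : ↥P) : G) * (v.toMul : V) * ((g * h : ↥P) : G)⁻¹ =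
          (g : G) * ((h : G) * (v.toMul : V) * (h : G)⁻¹) * (g : G)⁻¹
        simp [mul_assoc])) }
  have : Finite ↥θ.range := Finite.of_surjective _ θ.rangeRestrict_surjective
  have : Finite (Additive V) := inferInstanceAs (Finite V)
  let R : Rep G ↥θ.range (Additive V) :=
    { V := V
      P := P
      f := θ.rangeRestrict
      surj := θ.rangeRestrict_surjective
      j := MonoidHom.mk' (fun x => ((x.toAdd.toMul : V) : G)) fun _ _ => rfl
      inj := fun x y h => Multiplicative.toAdd.injective (Additive.toMul.injective (Subtype.ext h))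
      range := by
        ext x
        exact ⟨by rintro ⟨y, rfl⟩; exact (y.toAdd.toMul : V).2,
          fun hx => ⟨Multiplicative.ofAdd (Additive.ofMul (⟨x, hx⟩ : V)), rfl⟩⟩
      equiv := fun g w => rfl }
  have hkereq : ∀ g : ↥P, θ.rangeRestrict g = 1 ↔ g ∈ (centralizer (V : Set G)).subgroupOf P :=
    fun g => R.ker_eq g
  have hker : θ.rangeRestrict.ker = (centralizer (V : Set G)).subgroupOf P :=
    SetLike.ext fun g => hkereq g
  obtain ⟨hh, -⟩ := hyp_image (p := p) θ.rangeRestrict θ.rangeRestrict_surjective T hM hTM hmax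
    (hker ▸ hkerM) fun N hN hNT => hker ▸ hnorm N hN hNT
  have hexp : ∀ w : Additive V, p • w = 0 := fun w =>
    Additive.toMul.injective (Subtype.ext (hV.2 _ (w.toMul : V).2))
  -- offenders
  have hoff : ∀ B : Subgroup G, B ≤ P → IsOff p V B →
      Elem p ((B.subgroupOf P).map θ.rangeRestrict) ∧
      Nat.card (Additive V) ≤ meas (Additive V) ((B.subgroupOf P).map θ.rangeRestrict) := by
    intro B hBP hB
    refine ⟨⟨?_, ?_⟩, ?_⟩
    · rintro _ ⟨a, ha, rfl⟩ _ ⟨b, hb, rfl⟩
      rw [← commutatorElement_eq_one_iff_mul_comm, ← map_commutatorElement, hkereq]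
      exact hB.comm (commutator_mem_commutator (show (a : G) ∈ B from ha) (show (b : G) ∈ B from hb))
    · rintro _ ⟨a, ha, rfl⟩
      rw [← map_pow, hkereq]
      exact hB.pow _ ha
    · have hfx : Nat.card (fx (Additive V) ((B.subgroupOf P).map θ.rangeRestrict)) =
          Nat.card ↥(V ⊓ centralizer (B : Set G)) := by
        refine Nat.card_congr ⟨fun w => ⟨(((w : Additive V).toMul : V) : G),
          ((w : Additive V).toMul : V).2, mem_centralizer_iff.2 fun b hb => ?_⟩,
          fun v => ⟨Additive.ofMul (⟨v, v.2.1⟩ : V), ?_⟩, fun w => rfl, fun v => rfl⟩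
        · exact (R.smul_eq_iff ⟨b, hBP hb⟩ _).1
            (w.2 _ (mem_map_of_mem _ (show (⟨b, hBP hb⟩ : ↥P) ∈ B.subgroupOf P from hb)))
        · rintro _ ⟨b, hb, rfl⟩
          exact (R.smul_eq_iff b _).2 (mem_centralizer_iff.1 v.2.2 b hb)
      have hinj : Nat.card ↥(B.subgroupOf P ⊓ θ.rangeRestrict.ker) =
          Nat.card ↥(B ⊓ centralizer (V : Set G)) := by
        rw [hker, subgroupOf, subgroupOf, ← comap_inf]
        exact Nat.card_congr (subgroupOfEquivOfLe (inf_le_left.trans hBP)).toEquiv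
      have hc2 := card_map_mul (B.subgroupOf P) θ.rangeRestrict
      rw [Nat.card_congr (subgroupOfEquivOfLe hBP).toEquiv, hinj] at hc2
      rw [meas, hfx, Nat.card_congr Additive.toMul]
      refine Nat.le_of_mul_le_mul_left ?_ (Nat.card_pos (α := ↥(B ⊓ centralizer (V : Set G))))
      refine hB.card.trans_eq ?_
      rw [hc2]
      ring
  obtain ⟨hAel, hAm⟩ := hoff A hAP hA
  have hA0 : (A.subgroupOf P).map θ.rangeRestrict ≠ ⊥ := fun h0 => hAV fun a ha =>
    (hkereq ⟨a, hAP ha⟩).1 (mem_bot.1 (h0 ▸ mem_map_of_mem _ (show (⟨a, hAP ha⟩ : ↥P) ∈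
      A.subgroupOf P from ha)))
  set TH : Sylow p ↥θ.range := T.mapSurjective θ.rangeRestrict_surjective with hTH
  obtain ⟨r, E, hb⟩ := exists_blocks hexp hh hAel hA0 hAm TH
  have hmap : ((((T : Subgroup ↥P).map P.subtype)).subgroupOf P).map R.f = (TH : Subgroup _) := by
    rw [subgroupOf, comap_map_eq_self_of_injective P.subtype_injective]
    rfl
  have hout := R.outcome hb (map_subtype_le _) hmap
  refine ⟨r, fun i => R.lift (E i), hout, fun B hBP hB => ?_, fun N hN hAN hCN => ?_⟩
  · obtain ⟨hBel, hBm⟩ := hoff B hBP hB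
    have hle : (B.subgroupOf P).map θ.rangeRestrict ≤ ⨆ i, E i := by
      rcases eq_or_ne ((B.subgroupOf P).map θ.rangeRestrict) ⊥ with h0 | h0
      · rw [h0]; exact bot_le
      · refine (le_sSup_members hexp hh hBel h0 hBm).trans ?_
        rw [hb.eq]
        exact sSup_le_sSup fun D hD => hD.1
    have : Nonempty (Fin r) := ⟨⟨0, hb.pos⟩⟩
    rw [← R.lift_iSup]
    exact fun b hb' => (R.mem_lift (g := ⟨b, hBP hb'⟩)).2
      (hle (mem_map_of_mem _ (show (⟨b, hBP hb'⟩ : ↥P) ∈ B.subgroupOf P from hb')))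
  · have hnN : (N.map θ.rangeRestrict).Normal := hN.map _ θ.rangeRestrict_surjective
    have hall : ∀ i, E i ≤ N.map θ.rangeRestrict := by
      intro i
      refine (le_iSup E i).trans (hb.eq.le.trans (sSup_le fun D hD => ?_))
      have hz := moved_of_offender hexp hh hAel hA0 hAm
      have hc := Std.of_moved hexp hh hz
      obtain ⟨D₀, hD₀A, hD₀⟩ :=
        exists_mem hAel hA0 ((hc.tame.bound _ hAel).antisymm hAm) hc.tame.bound
      obtain ⟨S, hS⟩ := hD.elem.isPGroup.exists_le_sylow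
      obtain ⟨S₀, hS₀⟩ := hD₀.elem.isPGroup.exists_le_sylow
      obtain ⟨g, hg⟩ := MulAction.exists_smul_eq ↥θ.range S₀ S
      obtain ⟨t, -, ht⟩ := hc.partner.orbit hc.tame hc.hyp (T := S) (hD₀.cnj g) (by
        rw [← hg, coe_smul_sylow]
        exact cnj_mono g hS₀) hD hS
      rw [ht, cnj_cnj]
      rintro _ ⟨x, hx, rfl⟩
      exact hnN.conj_mem x (map_mono hAN (hD₀A hx)) _
    refine iSup_le fun i => ?_
    rintro _ ⟨g, hg, rfl⟩
    obtain ⟨n, hn, hne⟩ := hall i hg
    refine mem_map_of_mem _ ?_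
    have h1 : n⁻¹ * g ∈ N := hCN ((hkereq _).1 (by
      rw [map_mul, map_inv, hne]
      exact inv_mul_cancel _))
    simpa using mul_mem hn h1

end Cfsg.Agent.Lib.FFComp
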