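import Cfsg.Agent.Lib.FFComp.Blocks

/-!
# Members of order at least three

The groups generated by the pairs of the slots are orthogonal and permuted by the Sylow subgroup.
-/

set_option autoImplicit false
set_option linter.unusedSectionVars false

namespace Cfsg.Agent.Lib.FFComp

open Subgroup SL2Recog FFMin Matrix
open scoped Pointwise
open Cfsg.Agent.Lib.SL2 (SLtwo)

universe u

variable {H V : Type u} [Group H] [AddCommGroup V] [DistribMulAction H V] {p : ℕ}
  [Finite H] [Finite V] [FaithfulSMul H V] [Fact p.Prime]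
  {T : Sylow p H} {M : Subgroup H}

/-- A chosen partner with its model. -/
structure Part (p : ℕ) (V : Type u) [AddCommGroup V] [DistribMulAction H V] (T M : Subgroup H)
    (A B : Subgroup H) : Prop where
  slot : InSlot p V (members p V T \ {A}) B
  not_le : ¬ B ≤ M
  model : ∃ (F : Type) (_ : Field F) (_ : Fintype F), Fintype.card F = Nat.card A ∧
    Nonempty (NatPair F V A B)

theorem exists_part (hc : Std p H V) (hM : UMax p M) (hTM : (T : Subgroup H) ≤ M) {A : Subgroup H}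
    (hA : A ∈ members p V (T : Subgroup H)) : ∃ B, Part p V (T : Subgroup H) M A B := by
  obtain ⟨B, h1, h2, h3⟩ := exists_pair hc (Base.mk hA rfl) hM hTM
  exact ⟨B, h1, h2, h3⟩

variable {A B A' B' : Subgroup H}

theorem Part.oppPair (hc : Std p H V) (hM : UMax p M) (hTM : (T : Subgroup H) ≤ M)
    (hA : A ∈ members p V (T : Subgroup H)) (h : Part p V (T : Subgroup H) M A B) :
    OppPair p V A B := by
  have hb : Base p V (members p V (T : Subgroup H) \ {A}) T A := ⟨hA, rfl⟩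
  exact (hb.inSlot hc).oppPair hc hb h.slot hM
    (hb.memSup_eq.le.trans ((sSup_le fun _ hD => hD.2).trans hTM)) h.not_le

theorem Part.eq_translate (hc : Std p H V) (hM : UMax p M) (hTM : (T : Subgroup H) ≤ M)
    (hA : A ∈ members p V (T : Subgroup H)) (h : Part p V (T : Subgroup H) M A B) {C : Subgroup H}
    (hC : InSlot p V (members p V (T : Subgroup H) \ {A}) C) (hne : C ≠ A) :
    ∃ a ∈ A, C = cnj a B := by
  obtain ⟨F, _, _, hq, ⟨n⟩⟩ := h.model
  exact (InSlot.eq_or_translate hc (Base.mk hA rfl) hM hTM h.slot h.not_le n hq hC).resolve_left hne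

theorem Part.dev_mem (hc : Std p H V) (hTM : (T : Subgroup H) ≤ M)
    (hA : A ∈ members p V (T : Subgroup H)) (hA' : A' ∈ members p V (T : Subgroup H))
    (hne : A' ≠ A) (h : Part p V (T : Subgroup H) M A B) {a : H} (ha : a ∈ A') (v : V) :
    dev a v ∈ fx V A ⊓ fx V B :=
  ⟨hc.tame.dev_mem_fx hA'.1 hA.1 hne (hc.tame.comm_members T.2 hA'.1 hA'.2 hA.1 hA.2) ha v,
    hc.tame.dev_mem_fx hA'.1 h.slot.mem (fun he => h.not_le (he ▸ hA'.2.trans hTM))
      (h.slot.comm A' ⟨hA', hne⟩).symm ha v⟩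

/-- **Orthogonality of pairs in different slots.** -/
theorem Part.orth (hc : Std p H V) (hM : UMax p M) (hTM : (T : Subgroup H) ≤ M)
    (hA : A ∈ members p V (T : Subgroup H)) (hA' : A' ∈ members p V (T : Subgroup H))
    (hne : A ≠ A') (h : Part p V (T : Subgroup H) M A B) (h' : Part p V (T : Subgroup H) M A' B')
    (h2 : 2 < Nat.card A) : A ⊔ B ≤ fxTo (fx V (A' ⊔ B')) := by
  have hp := h.oppPair hc hM hTM hA
  have hp' := h'.oppPair hc hM hTM hA'
  obtain ⟨F', _, _, hq', ⟨n'⟩⟩ := h'.model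
  obtain ⟨x, hx⟩ := exists_tor hc n' hp' hq' (hc.card_eq hA.1 hA'.1 ▸ h2)
  have hcent : x ∈ cent (members p V (T : Subgroup H) \ {A'}) :=
    (sup_le ((Base.mk hA' rfl : Base p V _ T A').inSlot hc).le_cent h'.slot.le_cent) hx.mem
  have hfix : ∀ D ∈ members p V (T : Subgroup H), cnj x D = D := fun D hD => by
    by_cases hDA : D = A'
    · exact hDA ▸ hx.norm_left
    · exact cnj_eq_of_mem_cent hcent ⟨hD, hDA⟩
  have hcomA : ∀ a ∈ A, x * a = a * x := fun a ha =>
    (mem_centralizer_iff.1 hcent a (le_sSup (show A ∈ _ \ {A'} from ⟨hA, hne⟩) ha)).symm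
  have hxA : cnj x A = A := hfix A hA
  have hsl : InSlot p V (members p V (T : Subgroup H) \ {A}) (cnj x B) := by
    refine ⟨h.slot.mem.cnj x, fun hmem => h.slot.not_mem ?_, fun D hD => ?_⟩
    · exact map_injective (f := (MulAut.conj x).toMonoidHom) (MulAut.conj x).injective
        (hfix _ hmem.1).symm ▸ hmem
    · exact hfix D hD.1 ▸ (h.slot.comm D hD).cnj x
  obtain ⟨a₀, ha₀, hxB⟩ := h.eq_translate hc hM hTM hA hsl fun he => h.not_le (by
    rw [map_injective (f := (MulAut.conj x).toMonoidHom) (MulAut.conj x).injective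
      (he.trans hxA.symm)]
    exact hA.2.trans hTM)
  -- the torus normalises `B`
  have hxBB : cnj x B = B := by
    have hpow : ∀ k : ℕ, cnj (x ^ k) B = cnj (a₀ ^ k) B := by
      intro k
      induction k with
      | zero => rw [pow_zero, pow_zero]
      | succ k ih =>
        have hc1 : Commute x (a₀ ^ k) := (show Commute x a₀ from hcomA a₀ ha₀).pow_right k
        rw [pow_succ', ← cnj_cnj, ih, cnj_cnj, hc1.eq, ← cnj_cnj, hxB, cnj_cnj, ← pow_succ]
    have h1 := hpow (Nat.card A' - 1)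
    rw [hx.pow_card, cnj_one] at h1
    have h3 : a₀ ^ Nat.card A' = 1 := by
      rw [← hc.card_eq hA.1 hA'.1]
      exact congrArg Subtype.val (pow_card_eq_one' (x := (⟨a₀, ha₀⟩ : A)))
    have h4 : a₀ ^ (Nat.card A' - 1) * a₀ = 1 := by
      rw [← pow_succ, Nat.sub_add_cancel Nat.card_pos, h3]
    rw [hxB]
    refine mem_normalizer_iff_map_conj_eq.1 ?_
    rw [eq_inv_of_mul_eq_one_right h4]
    exact inv_mem (mem_normalizer_iff_map_conj_eq.2 h1.symm)
  -- the torus is trivial modulo the common fixed points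
  have hxfixA : ∀ a ∈ A, ∀ v : V, x • dev a v = dev a v := fun a ha v =>
    NatPair.smul_fix hx.mem (h'.dev_mem hc hTM hA' hA hne ha v)
  have hdx : ∀ v : V, dev x v ∈ fx V A ⊓ fx V B := by
    obtain ⟨a, ha, ha1⟩ := exists_ne_one hA.1.ne_bot
    have h1 : ∀ v : V, dev x v ∈ fx V A := fun v => (hc.tame.fx_eq hA.1 ha ha1).2 (by
      rw [← dev_comm (hcomA a ha), dev_eq_zero_iff]
      exact hxfixA a ha v)
    intro v
    obtain ⟨_, ⟨w, rfl⟩, y, hy, rfl⟩ :=
      AddSubgroup.mem_sup.1 (hp.range_sup hc ha ha1 ▸ AddSubgroup.mem_top v)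
    refine ⟨h1 _, ?_⟩
    rw [dev_add, devHom_apply, dev_eq_zero_iff.2 (hxfixA a ha w), zero_add]
    exact (fx V B).sub_mem (OppPair.fx_norm hxBB hy) hy
  have hxb : ∀ b ∈ B, x * b * x⁻¹ = b := by
    intro b hb
    have hb' : x * b * x⁻¹ ∈ B := hxBB ▸ mem_map_of_mem _ hb
    set c := b⁻¹ * (x * b * x⁻¹) with hcdef
    have hcB : c ∈ B := mul_mem (inv_mem hb) hb'
    have hc0 : c = 1 := by
      by_contra hc1
      refine hc1 (eq_one_of_dev fun v : V => dev_eq_zero hcB (hp.opp' c hcB hc1 v ?_))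
      have e1 : dev (x * b * x⁻¹) v = x • dev b (x⁻¹ • v) := by rw [smul_dev, smul_inv_smul]
      have hu : dev x⁻¹ v ∈ fx V A ⊓ fx V B := by
        rw [dev_inv]
        exact neg_mem (hdx _)
      have e2 : dev b (x⁻¹ • v) = dev b v := by
        rw [smul_eq x⁻¹ v, dev_add, dev_eq_zero hb hu.2, add_zero]
      have e3 : dev (x * b * x⁻¹) v = dev b v + dev c v := by
        rw [← dev_mul_mem hc.tame hp.right hb hcB, hcdef, mul_inv_cancel_left]
      rw [e1, e2, smul_eq x (dev b v)] at e3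
      exact add_left_cancel e3 ▸ (hdx _).1
    rwa [hcdef, inv_mul_eq_one, eq_comm] at hc0
  have hleA : A ≤ fxTo (fx V (A' ⊔ B')) := fun a ha v => by
    rw [fx_sup]
    exact h'.dev_mem hc hTM hA' hA hne ha v
  refine sup_le hleA fun b hb v => ?_
  rw [fx_sup]
  refine hx.free _ ?_
  rw [dev_comm (mul_inv_eq_iff_eq_mul.1 (hxb b hb)), dev_eq_zero hb (hdx v).2]
  exact zero_mem _

theorem Part.cnj_le (hc : Std p H V) (hM : UMax p M) (hTM : (T : Subgroup H) ≤ M)
    (hA : A ∈ members p V (T : Subgroup H)) (h : Part p V (T : Subgroup H) M A B) {t : H}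
    (ht : t ∈ (T : Subgroup H)) (hA' : cnj t A = A') (h' : Part p V (T : Subgroup H) M A' B') :
    cnj t (A ⊔ B) ≤ A' ⊔ B' := by
  subst hA'
  obtain ⟨a, ha, he⟩ := h'.eq_translate hc hM hTM (members_conj hA ht) (inSlot_cnj ht h.slot)
    fun he => h.not_le (map_injective (f := (MulAut.conj t).toMonoidHom) (MulAut.conj t).injective he
      ▸ hA.2.trans hTM)
  rw [show cnj t (A ⊔ B) = cnj t A ⊔ cnj t B from Subgroup.map_sup _ _ _, he]
  exact sup_le le_sup_left (cnj_le_of_mem (mem_sup_left ha) le_sup_right)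

theorem NatPair.span (hc : Std p H V) (hp : OppPair p V A B) :
    fx V (A ⊔ B) ⊔ devSpan V (A ⊔ B) = ⊤ := by
  obtain ⟨a, ha, ha1⟩ := exists_ne_one hp.left.ne_bot
  obtain ⟨b, hb, hb1⟩ := exists_ne_one hp.right.ne_bot
  refine top_unique ((hp.range_sup hc ha ha1).ge.trans (sup_le ?_ fun y hy => ?_))
  · rintro _ ⟨v, rfl⟩
    exact AddSubgroup.mem_sup_right (dev_mem_devSpan (mem_sup_left ha) v)
  · obtain ⟨_, ⟨v, rfl⟩, w, hw, he⟩ :=
      AddSubgroup.mem_sup.1 (hp.symm.range_sup hc hb hb1 ▸ AddSubgroup.mem_top y)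
    have hwU : w ∈ fx V (A ⊔ B) := by
      rw [fx_sup]
      refine ⟨hw, ?_⟩
      have h1 := sub_mem hy (hp.right.quad hc.tame.exp b hb v)
      rwa [← he, devHom_apply, add_sub_cancel_left] at h1
    rw [← he]
    exact add_mem (AddSubgroup.mem_sup_right (dev_mem_devSpan (mem_sup_right hb) v))
      (AddSubgroup.mem_sup_left hwU)

/-- The blocks when members have order at least three. -/
theorem exists_split_large (hc : Std p H V) (hM : UMax p M) (hTM : (T : Subgroup H) ≤ M)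
    {A₀ : Subgroup H} (hA₀ : A₀ ∈ members p V (T : Subgroup H)) (h2 : 2 < Nat.card A₀) :
    ∃ E : ↥(members p V (T : Subgroup H)) → Subgroup H,
      Split V (T : Subgroup H) E ∧ (∀ i, IsSLBlock p V (E i)) ∧
      (∀ i, E i ≤ sSup {D | Mem p V D}) ∧ ∀ D ∈ members p V (T : Subgroup H), D ≤ ⨆ i, E i := by
  choose B hB using fun i : ↥(members p V (T : Subgroup H)) => exists_part hc hM hTM i.2
  refine ⟨fun i => (i : Subgroup H) ⊔ B i, ⟨fun i j hij => ?_, fun i => ?_, fun i j => ?_,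
      fun t ht i => ⟨⟨cnj t i, members_conj i.2 ht⟩, (hB i).cnj_le hc hM hTM i.2 ht rfl (hB _)⟩, ?_⟩,
    fun i => ?_, fun i => sup_le (le_sSup (show (i : Subgroup H) ∈ {D | Mem p V D} from i.2.1))
      (le_sSup (show B i ∈ {D | Mem p V D} from (hB i).slot.mem)), fun D hD => le_sup_left.trans
      (le_iSup (fun i : ↥(members p V (T : Subgroup H)) => (i : Subgroup H) ⊔ B i) ⟨D, hD⟩)⟩
  · exact (hB i).orth hc hM hTM i.2 j.2 (fun he => hij (Subtype.ext he)) (hB j)
      (hc.card_eq hA₀.1 i.2.1 ▸ h2)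
  · exact NatPair.span hc ((hB i).oppPair hc hM hTM i.2)
  · obtain ⟨t, ht, he⟩ := hc.partner.orbit hc.tame hc.hyp i.2.1 i.2.2 j.2.1 j.2.2
    refine ⟨t, ht, le_antisymm ((hB i).cnj_le hc hM hTM i.2 ht he.symm (hB j)) ?_⟩
    have h1 := cnj_mono t ((hB j).cnj_le hc hM hTM j.2 (inv_mem ht)
      (by rw [he, cnj_cnj, inv_mul_cancel, cnj_one]) (hB i))
    rwa [cnj_cnj, mul_inv_cancel, cnj_one] at h1
  · by_contra hne
    exact (hB ⟨A₀, hA₀⟩).not_le ((le_sup_right.trans (le_iSup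
      (fun i : ↥(members p V (T : Subgroup H)) => (i : Subgroup H) ⊔ B i) ⟨A₀, hA₀⟩)).trans
      (le_sup_left.trans (hM.2.2 T hTM _ hne le_sup_right)))
  · obtain ⟨F, fieldF, fintF, hq, ⟨n⟩⟩ := (hB i).model
    obtain ⟨k, hk⟩ := IsPGroup.iff_card.1 i.2.1.elem.isPGroup
    refine ⟨k, Nat.pos_of_ne_zero fun h0 => ?_, F, fieldF, fintF, hq.trans hk, n.ρ, n.π, n.surj,
      fun v => by rw [n.ker, fx_sup], n.smul⟩
    rw [h0, pow_zero] at hk
    exact i.2.1.ne_bot (Subgroup.eq_bot_of_card_eq _ hk)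

end Cfsg.Agent.Lib.FFComp
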