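import Cfsg.Agent.Lib.FFComp.Slot

/-!
# A pair in a slot generates `SL₂(q)` acting naturally

A minimal subgroup generated by the slot and a member outside the maximal subgroup gives the model.
-/

set_option autoImplicit false
set_option linter.unusedSectionVars false

namespace Cfsg.Agent.Lib.FFComp

open Subgroup SL2Recog FFMin Matrix
open scoped Pointwise
open Cfsg.Agent.Lib.SL2 (SLtwo)

universe u

variable {H V : Type u} [Group H] [AddCommGroup V] [DistribMulAction H V] {p : ℕ}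
  [Finite H] [Finite V] [FaithfulSMul H V] [Fact p.Prime]

/-- `A` and `B` generate `SL₂(F)`, natural modulo the common fixed points. -/
structure NatPair (F : Type) [Field F] (V : Type u) [AddCommGroup V] [DistribMulAction H V]
    (A B : Subgroup H) where
  ρ : ↥(A ⊔ B) ≃* SLtwo F
  π : V →+ (Fin 2 → F)
  surj : Function.Surjective π
  ker : ∀ v, π v = 0 ↔ v ∈ fx V A ⊓ fx V B
  smul : ∀ (l : ↥(A ⊔ B)) (v : V),
    π ((l : H) • v) = ((ρ l : SLtwo F) : Matrix (Fin 2) (Fin 2) F) *ᵥ π v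

variable {O : Set (Subgroup H)} {T : Sylow p H} {A : Subgroup H}

theorem Std.card_eq (hc : Std p H V) {X Y : Subgroup H} (hX : Mem p V X) (hY : Mem p V Y) :
    Nat.card X = Nat.card Y := by
  obtain ⟨T, hXT⟩ := hX.elem.isPGroup.exists_le_sylow
  obtain ⟨S, hYS⟩ := hY.elem.isPGroup.exists_le_sylow
  obtain ⟨g, hg⟩ := MulAction.exists_smul_eq H S T
  obtain ⟨t, -, ht⟩ := hc.partner.orbit hc.tame hc.hyp hX hXT (D := cnj g Y) (hY.cnj g) (by
    rw [← hg, coe_smul_sylow]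
    exact cnj_mono g hYS)
  rw [← card_cnj g Y, ht, card_cnj]

theorem Std.card_fx_eq (hc : Std p H V) {X Y : Subgroup H} (hX : Mem p V X) (hY : Mem p V Y) :
    Nat.card (fx V X) = Nat.card (fx V Y) := by
  have h1 := hX.meas_eq.trans hY.meas_eq.symm
  rw [meas, meas, hc.card_eq hX hY] at h1
  exact Nat.eq_of_mul_eq_mul_left Nat.card_pos h1

theorem dev_mul_mem (ht : Tame p H V) {A : Subgroup H} (hA : Mem p V A) {a b : H} (ha : a ∈ A)
    (hb : b ∈ A) (v : V) : dev (a * b) v = dev a v + dev b v := by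
  rw [dev_mul, hA.quad ht.exp b hb v a ha, add_comm]

/-- The facts about two opposite members. -/
structure OppPair (p : ℕ) (V : Type u) [AddCommGroup V] [DistribMulAction H V]
    (A B : Subgroup H) : Prop where
  left : Mem p V A
  right : Mem p V B
  opp : Opp V A B
  opp' : Opp V B A

theorem OppPair.symm {A B : Subgroup H} (h : OppPair p V A B) : OppPair p V B A :=
  ⟨h.right, h.left, h.opp', h.opp⟩

theorem OppPair.inf_eq_bot {A B : Subgroup H} (h : OppPair p V A B) {a : H}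
    (ha : a ∈ A) (ha1 : a ≠ 1) : (devHom V a).range ⊓ fx V B = ⊥ := by
  refine (AddSubgroup.eq_bot_iff_forall _).2 ?_
  rintro _ ⟨⟨v, rfl⟩, hv⟩
  exact dev_eq_zero ha (h.opp a ha ha1 v hv)

theorem OppPair.range_sup {A B : Subgroup H} (hc : Std p H V) (h : OppPair p V A B) {a : H}
    (ha : a ∈ A) (ha1 : a ≠ 1) : (devHom V a).range ⊔ fx V B = ⊤ := by
  refine AddSubgroup.eq_top_of_card_eq _ ?_
  have h1 := card_sup_mul_inf (devHom V a).range (fx V B)
  rw [h.inf_eq_bot ha ha1, AddSubgroup.card_bot, mul_one,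
    hc.tame.card_range h.left ha ha1] at h1
  rw [h1, hc.card_eq h.left h.right, ← h.right.meas_eq, meas]

theorem OppPair.sup_eq_top {A B : Subgroup H} (hc : Std p H V) (h : OppPair p V A B) :
    fx V A ⊔ fx V B = ⊤ := by
  obtain ⟨a, ha, ha1⟩ := exists_ne_one h.left.ne_bot
  refine top_le_iff.1 ((h.range_sup hc ha ha1).ge.trans (sup_le_sup_right ?_ _))
  rintro _ ⟨v, rfl⟩
  exact h.left.quad hc.tame.exp a ha v

theorem OppPair.card_inf {A B : Subgroup H} (hc : Std p H V) (h : OppPair p V A B) :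
    Nat.card A * Nat.card ↥(fx V A ⊓ fx V B) = Nat.card (fx V B) := by
  have h1 := card_sup_mul_inf (fx V A) (fx V B)
  rw [h.sup_eq_top hc, AddSubgroup.card_top] at h1
  refine Nat.eq_of_mul_eq_mul_right (Nat.card_pos (α := fx V A)) ?_
  rw [mul_comm (Nat.card (fx V B)), ← h1]
  have hm := h.left.meas_eq
  rw [meas] at hm
  rw [← hm]
  ring

theorem InSlot.exists_umax (hc : Std p H V) (hb : Base p V O T A) {C : Subgroup H}
    (hC : InSlot p V O C) : ∃ (T' : Sylow p H) (M : Subgroup H),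
      Base p V O T' C ∧ UMax p M ∧ (T' : Subgroup H) ≤ M ∧ sSup O ⊔ C ≤ M := by
  obtain ⟨T', hb'⟩ := hC.exists_base hc hb
  obtain ⟨M, hM, hTM⟩ := hc.hyp.exists_umax T'
  exact ⟨T', M, hb', hM, hTM, hb'.memSup_eq.le.trans ((sSup_le fun _ hD => hD.2).trans hTM)⟩

theorem InSlot.oppPair (hc : Std p H V) (hb : Base p V O T A) {C D M : Subgroup H}
    (hC : InSlot p V O C) (hD : InSlot p V O D) (hM : UMax p M) (hCM : sSup O ⊔ C ≤ M)
    (hDM : ¬ D ≤ M) : OppPair p V C D := by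
  obtain ⟨T₁, M₁, hb₁, hM₁, hT₁, hC₁⟩ := hC.exists_umax hc hb
  obtain ⟨T₂, M₂, hb₂, hM₂, hT₂, hD₂⟩ := hD.exists_umax hc hb
  have h1 : M = M₁ := hC.umax_unique hc hb hM hM₁ hCM hC₁
  refine ⟨hC.mem, hD.mem, hD.opp hc hb₁ hM₁ hT₁ (h1 ▸ hDM), hC.opp hc hb₂ hM₂ hT₂ fun hle => ?_⟩
  have h2 := hC.umax_unique hc hb hM hM₂ hCM (sup_le (le_sup_left.trans hD₂) hle)
  exact hDM (h2 ▸ le_sup_right.trans hD₂)

theorem Base.sSup_le_cent (hc : Std p H V) (hb : Base p V O T A) : sSup O ≤ cent O := fun x hx =>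
  mem_centralizer_iff.2 fun y hy => ((hc.tame.memSup (T := (T : Subgroup H)) T.2).1).comm y
    (sSup_le_sSup hb.subset hy) x (sSup_le_sSup hb.subset hx)

/-- **The model of a pair.** -/
theorem exists_pair (hc : Std p H V) (hb : Base p V O T A) {M : Subgroup H} (hM : UMax p M)
    (hTM : (T : Subgroup H) ≤ M) :
    ∃ B : Subgroup H, InSlot p V O B ∧ ¬ B ≤ M ∧
      ∃ (F : Type) (_ : Field F) (_ : Fintype F), Fintype.card F = Nat.card A ∧
        Nonempty (NatPair F V A B) := by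
  classical
  have hA := hb.inSlot hc
  have hEM : sSup O ⊔ A ≤ M := hb.memSup_eq.le.trans ((sSup_le fun _ hD => hD.2).trans hTM)
  obtain ⟨g, hg⟩ := hc.partner T M hM hTM A hb.mem.1 hb.mem.2
  set 𝒦 : Set (Subgroup H) :=
    {Y | ∃ B, InSlot p V O B ∧ ¬ B ≤ M ∧ Y = sSup O ⊔ A ⊔ B} with h𝒦
  obtain ⟨K, ⟨B₀, hB₀, hB₀M, hKeq⟩, hKmin⟩ := (wellFounded_lt (α := Subgroup H)).has_min 𝒦
    ⟨_, cnj g A, ⟨hb.mem.1.cnj g, fun h => hg.not_le ((hb.subset h).2.trans hTM), fun D hD =>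
      (hc.tame.comm_of_le (hb.subset hD).1 (hb.mem.1.cnj g) (hg.orth D (hb.subset hD).1
        (hb.subset hD).2 fun he => hA.not_mem (he ▸ hD))).symm⟩, hg.not_le, rfl⟩
  have hKcent : K ≤ cent O :=
    hKeq ▸ sup_le (sup_le (hb.sSup_le_cent hc) hA.le_cent) hB₀.le_cent
  obtain ⟨L, R, W, hW, hLK, hLM, hER, hRM, hker, hh, hum, ⟨z, hzR, hzst⟩, hOk, hAk⟩ :=
    reduce_slot hc hb hM hTM (hKeq ▸ le_sup_left) hKcent
      (fun hle => hB₀M ((hKeq.symm ▸ le_sup_right).trans hle))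
  have hEL : sSup O ⊔ A ≤ L := hER.trans (map_subtype_le _)
  have hgenL : ∀ x ∈ L, x ∉ M → sSup O ⊔ A ⊔ cnj x A = L := by
    intro x hx hxM
    have hle : sSup O ⊔ A ⊔ cnj x A ≤ L := sup_le hEL (cnj_le_of_mem hx (le_sup_right.trans hEL))
    refine le_antisymm hle (hLK.trans (le_of_eq ?_))
    by_contra hne
    exact hKmin _ ⟨_, hA.conj (hKcent (hLK hx)), InSlot.cnj_not_le hc hb hM hTM (hKcent (hLK hx)) hxM,
      rfl⟩ (lt_of_le_of_ne (hle.trans hLK) fun he => hne he.symm)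
  obtain ⟨x₀, hx₀, hx₀M⟩ := SetLike.not_le_iff_exists.1 hLM
  have hB : InSlot p V O (cnj x₀ A) := hA.conj (hKcent (hLK hx₀))
  have hBM : ¬ cnj x₀ A ≤ M := InSlot.cnj_not_le hc hb hM hTM (hKcent (hLK hx₀)) hx₀M
  refine ⟨cnj x₀ A, hB, hBM, ?_⟩
  set B := cnj x₀ A with hBdef
  have hpair := hA.oppPair hc hb hB hM hEM hBM
  have hAL : A ≤ L := le_sup_right.trans hEL
  have hBL : B ≤ L := cnj_le_of_mem hx₀ hAL
  have hAmap : (A.subgroupOf L).map L.subtype = A := map_subgroupOf_eq_of_le hAL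
  set r := resMap L W hW with hr
  have : Finite ↥(resAct L W hW).range := Finite.of_surjective _ resMap_surjective
  have hexpW : ∀ w : W, p • w = 0 := fun w => Subtype.ext (hc.tame.exp w)
  obtain ⟨hbI, -⟩ := main hexpW hh
  obtain ⟨hdisj, -, hmemI⟩ :=
    mem_resMap hc.tame.bound hbI (hAmap.symm ▸ hb.mem.1) hAk
  have hZk : ((sSup O).subgroupOf L).map r = ⊥ := by
    rw [Subgroup.map_eq_bot_iff]
    intro x hx
    have hle : sSup O ≤ r.ker.map L.subtype := sSup_le fun D hD d hd =>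
      ⟨⟨d, (le_sup_left.trans hEL) (le_sSup hD hd)⟩, hOk D hD hd, rfl⟩
    obtain ⟨y, hy, he⟩ := hle hx
    exact (Subtype.ext he : y = x) ▸ hy
  have himg : ∀ x : L, (x : H) ∉ M →
      (A.subgroupOf L).map r ⊔ cnj (r x) ((A.subgroupOf L).map r) = ⊤ := by
    intro x hx
    have h1 : (sSup O).subgroupOf L ⊔ A.subgroupOf L ⊔ cnj x (A.subgroupOf L) = ⊤ := by
      refine map_injective L.subtype_injective ?_
      rw [Subgroup.map_sup, Subgroup.map_sup, map_cnj L.subtype, hAmap,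
        map_subgroupOf_eq_of_le (le_sup_left.trans hEL), ← MonoidHom.range_eq_map,
        Subgroup.range_subtype]
      exact hgenL x x.2 hx
    have h2 := congrArg (Subgroup.map r) h1
    rwa [Subgroup.map_sup, Subgroup.map_sup, hZk, bot_sup_eq, map_cnj,
      map_top_of_surjective _ resMap_surjective] at h2
  have hRA : A.subgroupOf L ≤ R := fun x hx => by
    obtain ⟨y, hy, he⟩ := hER (mem_sup_right (show (x : H) ∈ A from hx))
    exact (Subtype.ext he : y = x) ▸ hy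
  obtain ⟨F, fieldF, fintF, hF, -, ρ, π, hπ, hπ0, hρ⟩ :=
    exists_natural_model (R.mapSurjective resMap_surjective) ((M.subgroupOf L).map r)
      ((A.subgroupOf L).map r) hexpW hmemI.elem.pow hmemI.elem.comm
      (map_mono fun x hx => hRM (mem_map_of_mem L.subtype hx)) hum.1 (map_mono hRA)
      (fun x hx => by
        obtain ⟨y, rfl⟩ := resMap_surjective x
        exact himg y fun hyM => hx (mem_map_of_mem _ hyM))
      hmemI.meas_eq.ge (fun B' h1 h2 h3 => hmemI.meas_eq ▸ hmemI.strict B' h1 h2 h3) z hzR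
      ⟨r ⟨x₀, hx₀⟩, fun he => hx₀M (hzst _ he)⟩
  have hFA : Fintype.card F = Nat.card A := by
    rw [hF]
    have h1 := card_map_mul (A.subgroupOf L) r
    rw [hdisj, Subgroup.card_bot, mul_one] at h1
    rw [← h1, ← card_map_of_injective L.subtype_injective, hAmap]
  refine ⟨F, fieldF, fintF, hFA, ?_⟩
  set U := fx V A ⊓ fx V B with hU
  have hBmap : (B.subgroupOf L).map r = cnj (r ⟨x₀, hx₀⟩) ((A.subgroupOf L).map r) := by
    rw [← map_cnj]
    congr 1
    refine map_injective L.subtype_injective ?_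
    rw [map_subgroupOf_eq_of_le hBL, map_cnj, hAmap]
    rfl
  have hgen : (A.subgroupOf L).map r ⊔ (B.subgroupOf L).map r = ⊤ := hBmap ▸ himg _ hx₀M
  have hkerU : ∀ w : W, π w = 0 ↔ (w : V) ∈ U := by
    intro w
    rw [hπ0]
    constructor
    · intro hw
      constructor
      · intro a ha
        exact congrArg Subtype.val (hw (r ⟨a, hAL ha⟩) (mem_top _))
      · intro b hb'
        exact congrArg Subtype.val (hw (r ⟨b, hBL hb'⟩) (mem_top _))
    · intro hw g _
      have hle : (A.subgroupOf L).map r ⊔ (B.subgroupOf L).map r ≤ MulAction.stabilizer _ w := by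
        refine sup_le ?_ ?_ <;> rintro _ ⟨x, hx, rfl⟩
        · exact MulAction.mem_stabilizer_iff.2 (Subtype.ext (hw.1 _ hx))
        · exact MulAction.mem_stabilizer_iff.2 (Subtype.ext (hw.2 _ hx))
      exact MulAction.mem_stabilizer_iff.1 (hle (hgen ▸ mem_top g))
  have htop : W ⊔ U = ⊤ := by
    have h1 : Nat.card W = Nat.card A * Nat.card A * Nat.card ↥(W ⊓ U) := by
      have h := card_map_mul_add (⊤ : AddSubgroup W) π
      rw [top_inf_eq, AddSubgroup.map_top_of_surjective _ hπ, AddSubgroup.card_top,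
        AddSubgroup.card_top, Nat.card_fun, Nat.card_fin, pow_two, Nat.card_eq_fintype_card (α := F),
        hFA] at h
      rw [h]
      congr 1
      exact Nat.card_congr
        ⟨fun w => ⟨((w : W) : V), AddSubgroup.mem_inf.2 ⟨(w : W).2, (hkerU _).1 w.2⟩⟩,
          fun v => ⟨⟨v, (AddSubgroup.mem_inf.1 v.2).1⟩,
            (hkerU _).2 (AddSubgroup.mem_inf.1 v.2).2⟩, fun _ => rfl, fun _ => rfl⟩
    refine AddSubgroup.eq_top_of_card_eq _ ?_
    have h2 := card_sup_mul_inf W U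
    have h3 := hpair.card_inf hc
    have h4 := hB.mem.meas_eq
    rw [meas, ← h3, ← hc.card_eq hb.mem.1 hB.mem, ← hU] at h4
    refine Nat.eq_of_mul_eq_mul_right (Nat.card_pos (α := ↥(W ⊓ U))) ?_
    rw [h2, h1, ← h4]
    ring
  have hdec : ∀ v : V, ∃ w : W, v - (w : V) ∈ U := fun v => by
    obtain ⟨w, hw, u, hu, rfl⟩ := AddSubgroup.mem_sup.1 (htop ▸ AddSubgroup.mem_top v)
    exact ⟨⟨w, hw⟩, by simpa using hu⟩
  choose dec hdec using hdec
  have huniq : ∀ (v : V) (w : W), v - (w : V) ∈ U → π (dec v) = π w := fun v w hw => by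
    rw [← sub_eq_zero, ← map_sub, hkerU, AddSubgroup.coe_sub]
    simpa using sub_mem hw (hdec v)
  let πV : V →+ (Fin 2 → F) := AddMonoidHom.mk' (fun v => π (dec v)) fun v v' => by
    show π (dec (v + v')) = π (dec v) + π (dec v')
    rw [huniq (v + v') (dec v + dec v') ?_, map_add]
    rw [AddSubgroup.coe_add, add_sub_add_comm]
    exact add_mem (hdec v) (hdec v')
  have hsurj : Function.Surjective πV := fun y => by
    obtain ⟨w, rfl⟩ := hπ y
    exact ⟨(w : V), huniq _ w (by simp)⟩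
  have hker' : ∀ v, πV v = 0 ↔ v ∈ U := by
    intro v
    show π (dec v) = 0 ↔ _
    rw [hkerU]
    exact ⟨fun h => by simpa using add_mem (hdec v) h, fun h => by simpa using sub_mem h (hdec v)⟩
  have hfixU : ∀ l ∈ A ⊔ B, ∀ u ∈ U, l • u = u := fun l hl u hu => by
    rw [hU, ← fx_sup] at hu
    exact hu l hl
  let f : ↥(A ⊔ B) →* SLtwo F :=
    (ρ.toMonoidHom.comp r).comp (Subgroup.inclusion (sup_le hAL hBL))
  have hf : ∀ (l : ↥(A ⊔ B)) (v : V),
      πV ((l : H) • v) = ((f l : SLtwo F) : Matrix (Fin 2) (Fin 2) F) *ᵥ πV v := fun l v => by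
    show π (dec ((l : H) • v)) = _
    rw [huniq _ (r (Subgroup.inclusion (sup_le hAL hBL) l) • dec v) ?_, hρ]
    · rfl
    rw [resMap_smul]
    show (l : H) • v - (l : H) • ((dec v : W) : V) ∈ U
    rw [← smul_sub, hfixU l l.2 _ (hdec v)]
    exact hdec v
  have hinj : Function.Injective f := by
    refine (injective_iff_map_eq_one f).2 fun l hl => Subtype.ext ?_
    have h1 : r (Subgroup.inclusion (sup_le hAL hBL) l) = 1 := by
      apply ρ.injective
      rw [map_one]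
      exact hl
    refine eq_one_of_dev fun v : V => dev_eq_zero_iff.2 ?_
    obtain ⟨w, hw, u, hu, rfl⟩ := AddSubgroup.mem_sup.1 (htop ▸ AddSubgroup.mem_top v)
    rw [smul_add, hfixU l l.2 u hu]
    congr 1
    exact (mem_ker_resMap (Subgroup.inclusion (sup_le hAL hBL) l)).1 h1 w hw
  have hsurjf : Function.Surjective f := by
    intro y
    obtain ⟨x, rfl⟩ := ρ.surjective y
    have hle : (A.subgroupOf L).map r ⊔ (B.subgroupOf L).map r ≤
        (r.comp (Subgroup.inclusion (sup_le hAL hBL))).range := by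
      refine sup_le ?_ ?_ <;> rintro _ ⟨a, ha, rfl⟩
      · exact ⟨⟨a, mem_sup_left (show (a : H) ∈ A from ha)⟩, rfl⟩
      · exact ⟨⟨a, mem_sup_right (show (a : H) ∈ B from ha)⟩, rfl⟩
    obtain ⟨l, hl⟩ := hle (hgen ▸ mem_top x)
    exact ⟨l, congrArg ρ hl⟩
  exact ⟨⟨MulEquiv.ofBijective f ⟨hinj, hsurjf⟩, πV, hsurj, hker', hf⟩⟩

/-! ### Lines, translations and the torus -/

namespace NatPair

variable {F : Type} [Field F] {B : Subgroup H}

theorem smul_fix {l : H} (hl : l ∈ A ⊔ B) {u : V} (hu : u ∈ fx V A ⊓ fx V B) : l • u = u := by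
  rw [← fx_sup] at hu
  exact hu l hl

theorem mem_of_map_eq (n : NatPair F V A B) {v w : V} {U : AddSubgroup V}
    (hU : fx V A ⊓ fx V B ≤ U) (h : n.π v = n.π w) (hw : w ∈ U) : v ∈ U := by
  have h1 : v - w ∈ fx V A ⊓ fx V B := (n.ker _).1 (by rw [map_sub, h, sub_self])
  simpa using add_mem (hU h1) hw

/-- Coordinates adapted to the pair. -/
structure Frame (n : NatPair F V A B) where
  e : Fin 2 → F
  f : Fin 2 → F
  det_ne : e 0 * f 1 - e 1 * f 0 ≠ 0
  mem_left : ∀ v, v ∈ fx V A ↔ ∃ c : F, n.π v = c • e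
  mem_right : ∀ v, v ∈ fx V B ↔ ∃ c : F, n.π v = c • f

variable [Fintype F]

theorem exists_line (n : NatPair F V A B) (hc : Std p H V) (hp : OppPair p V A B)
    (hq : Fintype.card F = Nat.card A) {X Y : Subgroup H} (hX : X = A ∧ Y = B ∨ X = B ∧ Y = A) :
    ∃ e : Fin 2 → F, e ≠ 0 ∧ ∀ v, v ∈ fx V X ↔ ∃ c : F, n.π v = c • e := by
  have hXU : fx V A ⊓ fx V B ≤ fx V X := by
    rcases hX with ⟨rfl, -⟩ | ⟨rfl, -⟩
    exacts [inf_le_left, inf_le_right]
  have hXL : X ≤ A ⊔ B := by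
    rcases hX with ⟨rfl, -⟩ | ⟨rfl, -⟩
    exacts [le_sup_left, le_sup_right]
  have hXm : Mem p V X := by
    rcases hX with ⟨rfl, -⟩ | ⟨rfl, -⟩
    exacts [hp.left, hp.right]
  set P := (fx V X).map n.π with hP
  have hPcard : Nat.card P = Nat.card F := by
    have h1 := card_map_mul_add (fx V X) n.π
    have h2 : fx V X ⊓ n.π.ker = fx V A ⊓ fx V B := by
      ext v
      exact ⟨fun h => (n.ker v).1 h.2, fun h => ⟨hXU h, (n.ker v).2 h⟩⟩
    rw [h2, hc.card_fx_eq hXm hp.right, ← hp.card_inf hc, ← hP] at h1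
    rw [Nat.card_eq_fintype_card.trans hq]
    exact (Nat.eq_of_mul_eq_mul_right Nat.card_pos h1).symm
  obtain ⟨x, hx, hx1⟩ := exists_ne_one hXm.ne_bot
  set m : Matrix (Fin 2) (Fin 2) F := ((n.ρ ⟨x, hXL hx⟩ : _) : Matrix (Fin 2) (Fin 2) F) with hm
  set S := LinearMap.ker (Matrix.mulVecLin m - LinearMap.id) with hS
  have hSmem : ∀ y : Fin 2 → F, y ∈ S ↔ m *ᵥ y = y := fun y => by
    rw [hS, LinearMap.mem_ker, LinearMap.sub_apply, Matrix.mulVecLin_apply, LinearMap.id_apply,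
      sub_eq_zero]
  have hSne : S ≠ ⊤ := fun h => hx1 (congrArg Subtype.val (n.ρ.injective (a₁ := ⟨x, hXL hx⟩)
    (a₂ := 1) (by
      rw [map_one]
      refine Subtype.ext (Matrix.ext_iff_mulVec.2 fun y => ?_)
      show m *ᵥ y = (1 : Matrix (Fin 2) (Fin 2) F) *ᵥ y
      rw [Matrix.one_mulVec]
      exact (hSmem y).1 (h ▸ Submodule.mem_top))))
  have hPS : P ≤ S.toAddSubgroup := by
    rintro _ ⟨v, hv, rfl⟩
    show n.π v ∈ S
    rw [hSmem, hm, ← n.smul, hv x hx]
  have hScard : Nat.card S ≤ Nat.card F := by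
    have h1 : Module.finrank F S ≤ 1 := by
      have := Submodule.finrank_lt hSne
      rw [Module.finrank_fin_fun] at this
      omega
    rw [Module.natCard_eq_pow_finrank (K := F) (V := S)]
    exact (Nat.pow_le_pow_right Nat.card_pos h1).trans_eq (pow_one _)
  have heq : P = S.toAddSubgroup :=
    AddSubgroup.eq_of_le_of_card_ge hPS (hScard.trans hPcard.ge)
  obtain ⟨e, he, he0⟩ : ∃ e ∈ P, e ≠ 0 := by
    by_contra! h
    rw [(AddSubgroup.eq_bot_iff_forall P).2 h, AddSubgroup.card_bot] at hPcard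
    exact absurd hPcard.symm Finite.one_lt_card.ne'
  have heS : e ∈ S := by
    rw [heq] at he
    exact he
  have hmem : ∀ c : F, c • e ∈ P := fun c => by
    rw [heq]
    exact S.smul_mem c heS
  have hline : ∀ y ∈ P, ∃ c : F, y = c • e := by
    intro y hy
    have h1 : Function.Surjective fun c : F => (⟨c • e, hmem c⟩ : P) :=
      (Function.Injective.bijective_of_nat_card_le (fun c c' h =>
        smul_left_injective F he0 (congrArg Subtype.val h)) hPcard.le).2
    obtain ⟨c, hc'⟩ := h1 ⟨y, hy⟩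
    exact ⟨c, (congrArg Subtype.val hc').symm⟩
  refine ⟨e, he0, fun v => ⟨fun hv => hline _ ⟨v, hv, rfl⟩, ?_⟩⟩
  rintro ⟨c, hv⟩
  obtain ⟨w, hw, hwe⟩ := hmem c
  exact n.mem_of_map_eq hXU (hv.trans hwe.symm) hw

theorem exists_frame (n : NatPair F V A B) (hc : Std p H V) (hp : OppPair p V A B)
    (hq : Fintype.card F = Nat.card A) : Nonempty (Frame n) := by
  obtain ⟨e, he, hA⟩ := n.exists_line hc hp hq (X := A) (Y := B) (Or.inl ⟨rfl, rfl⟩)
  obtain ⟨f, hf, hB⟩ := n.exists_line hc hp hq (X := B) (Y := A) (Or.inr ⟨rfl, rfl⟩)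
  refine ⟨⟨e, f, fun hd => ?_, hA, hB⟩⟩
  have hzero : ∀ a b : F, a • e = b • f → a = 0 := by
    intro a b h
    obtain ⟨v, hv⟩ := n.surj (a • e)
    have h1 := (n.ker v).2 ⟨(hA v).2 ⟨a, hv⟩, (hB v).2 ⟨b, hv.trans h⟩⟩
    rw [hv, smul_eq_zero] at h1
    exact h1.resolve_right he
  have h1 : f 1 • e = e 1 • f := by
    funext i
    fin_cases i
    · simp only [Pi.smul_apply, smul_eq_mul, Fin.zero_eta]
      linear_combination hd
    · simp only [Pi.smul_apply, smul_eq_mul, Fin.mk_one]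
      ring
  have h2 : f 0 • e = e 0 • f := by
    funext i
    fin_cases i
    · simp only [Pi.smul_apply, smul_eq_mul, Fin.zero_eta]
      ring
    · simp only [Pi.smul_apply, smul_eq_mul, Fin.mk_one]
      linear_combination -hd
  have h3 := hzero _ _ h1
  have h4 := hzero _ _ h2
  exact hf (funext fun i => by fin_cases i <;> simpa)

variable {n : NatPair F V A B}

theorem Frame.exists_coord (fr : Frame n) (y : Fin 2 → F) :
    ∃ a b : F, y = a • fr.e + b • fr.f := by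
  have hd := fr.det_ne
  refine ⟨(y 0 * fr.f 1 - y 1 * fr.f 0) / (fr.e 0 * fr.f 1 - fr.e 1 * fr.f 0),
    (fr.e 0 * y 1 - fr.e 1 * y 0) / (fr.e 0 * fr.f 1 - fr.e 1 * fr.f 0), funext fun i => ?_⟩
  fin_cases i <;>
    simp only [Pi.add_apply, Pi.smul_apply, smul_eq_mul, Fin.zero_eta, Fin.mk_one] <;>
    rw [div_mul_eq_mul_div, div_mul_eq_mul_div, ← add_div, eq_div_iff hd] <;> ring

theorem Frame.coord_zero (fr : Frame n) {a b : F} (h : a • fr.e + b • fr.f = 0) :
    a = 0 ∧ b = 0 := by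
  have h0 := congrFun h 0
  have h1 := congrFun h 1
  simp only [Pi.add_apply, Pi.smul_apply, smul_eq_mul, Pi.zero_apply] at h0 h1
  constructor
  · have : a * (fr.e 0 * fr.f 1 - fr.e 1 * fr.f 0) = 0 := by
      linear_combination fr.f 1 * h0 - fr.f 0 * h1
    exact (mul_eq_zero.1 this).resolve_right fr.det_ne
  · have : b * (fr.e 0 * fr.f 1 - fr.e 1 * fr.f 0) = 0 := by
      linear_combination fr.e 0 * h1 - fr.e 1 * h0
    exact (mul_eq_zero.1 this).resolve_right fr.det_ne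

/-- An element with prescribed images of the frame. -/
theorem Frame.exists_elem (fr : Frame n) {e' f' : Fin 2 → F}
    (hd : e' 0 * f' 1 - e' 1 * f' 0 = fr.e 0 * fr.f 1 - fr.e 1 * fr.f 0) :
    ∃ l : ↥(A ⊔ B), ((n.ρ l : SLtwo F) : Matrix (Fin 2) (Fin 2) F) *ᵥ fr.e = e' ∧
      ((n.ρ l : SLtwo F) : Matrix (Fin 2) (Fin 2) F) *ᵥ fr.f = f' := by
  have hd0 := fr.det_ne
  set d := fr.e 0 * fr.f 1 - fr.e 1 * fr.f 0 with hdd
  let m : Matrix (Fin 2) (Fin 2) F :=
    !![(e' 0 * fr.f 1 - f' 0 * fr.e 1) / d, (f' 0 * fr.e 0 - e' 0 * fr.f 0) / d;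
       (e' 1 * fr.f 1 - f' 1 * fr.e 1) / d, (f' 1 * fr.e 0 - e' 1 * fr.f 0) / d]
  have hdet : m.det = 1 := by
    have key : (e' 0 * fr.f 1 - f' 0 * fr.e 1) * (f' 1 * fr.e 0 - e' 1 * fr.f 0) -
        (f' 0 * fr.e 0 - e' 0 * fr.f 0) * (e' 1 * fr.f 1 - f' 1 * fr.e 1) = d * d := by
      rw [show d * d = d * (e' 0 * f' 1 - e' 1 * f' 0) by rw [hd], hdd]
      ring
    rw [Matrix.det_fin_two_of, div_mul_div_comm, div_mul_div_comm, ← sub_div, key,
      div_self (mul_ne_zero hd0 hd0)]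
  obtain ⟨l, hl⟩ := n.ρ.surjective (⟨m, hdet⟩ : SLtwo F)
  refine ⟨l, ?_⟩
  rw [hl]
  constructor <;> funext i <;> fin_cases i <;>
    simp only [m, Matrix.mulVec, dotProduct, Fin.sum_univ_two, Matrix.of_apply, Matrix.cons_val',
      Matrix.cons_val_zero, Matrix.cons_val_one, Fin.zero_eta, Fin.mk_one] <;>
    field_simp <;> (rw [hdd]; ring)

/-- A conjugate interchanging the two sides. -/
theorem Frame.exists_swap (fr : Frame n) (hc : Std p H V) (hp : OppPair p V A B) :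
    ∃ l ∈ A ⊔ B, cnj l B = A := by
  obtain ⟨l, -, hl⟩ := fr.exists_elem (e' := fr.f) (f' := -fr.e) (by
    simp only [Pi.neg_apply]
    ring)
  refine ⟨l, l.2, hc.tame.eq_of_fx (hp.right.cnj _) hp.left ?_⟩
  refine AddSubgroup.eq_of_le_of_card_ge (fun v hv => ?_) ?_
  · obtain ⟨c, hc'⟩ := (fr.mem_right ((l : H)⁻¹ • v)).1
      ((smul_mem_fx_cnj (l : H)).1 (by rwa [smul_inv_smul]))
    refine (fr.mem_left v).2 ⟨-c, ?_⟩
    have h1 := n.smul l ((l : H)⁻¹ • v)
    rw [smul_inv_smul, hc', Matrix.mulVec_smul, hl] at h1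
    rw [h1, smul_neg, neg_smul]
  · rw [card_fx_cnj, hc.card_fx_eq hp.left hp.right]

/-- The diagonal element with parameter `t`. -/
theorem Frame.exists_diag (fr : Frame n) (t : Fˣ) :
    ∃ l : ↥(A ⊔ B), ((n.ρ l : SLtwo F) : Matrix (Fin 2) (Fin 2) F) *ᵥ fr.e = (t : F) • fr.e ∧
      ((n.ρ l : SLtwo F) : Matrix (Fin 2) (Fin 2) F) *ᵥ fr.f = ((t⁻¹ : Fˣ) : F) • fr.f :=
  fr.exists_elem (by
    simp only [Pi.smul_apply, smul_eq_mul]
    linear_combination (fr.e 0 * fr.f 1 - fr.e 1 * fr.f 0) * t.mul_inv)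

end NatPair

/-- A torus element and its transitivity. -/
structure Tor (p : ℕ) (V : Type u) [AddCommGroup V] [DistribMulAction H V]
    (A B : Subgroup H) (h : H) : Prop where
  mem : h ∈ A ⊔ B
  norm_left : cnj h A = A
  pow_card : h ^ (Nat.card A - 1) = 1
  norm_right : cnj h B = B
  free : ∀ v : V, dev h v ∈ fx V A ⊓ fx V B → v ∈ fx V A ⊓ fx V B
  trans : ∀ y ∈ fx V B, y ∉ fx V A → ∀ y' ∈ fx V B, y' ∉ fx V A →
    ∃ k ∈ A ⊔ B, k * h = h * k ∧ cnj k B = B ∧ k • y - y' ∈ fx V A ⊓ fx V B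

theorem exists_tor (hc : Std p H V) {F : Type} [Field F] [Fintype F] {B : Subgroup H}
    (n : NatPair F V A B) (hp : OppPair p V A B) (hq : Fintype.card F = Nat.card A)
    (h2 : 2 < Nat.card A) : ∃ h, Tor p V A B h := by
  classical
  obtain ⟨fr⟩ := n.exists_frame hc hp hq
  obtain ⟨t, ht⟩ : ∃ t : Fˣ, t ≠ 1 := by
    have : 1 < Fintype.card Fˣ := by rw [Fintype.card_units, hq]; omega
    exact Fintype.exists_ne_of_one_lt_card this 1
  choose τ hτe hτf using fr.exists_diag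
  have hcoord : ∀ (t : Fˣ) (v : V) (a b : F), n.π v = a • fr.e + b • fr.f →
      n.π ((τ t : H) • v) = (a * t) • fr.e + (b * (t⁻¹ : Fˣ)) • fr.f := fun t v a b hv => by
    rw [n.smul, hv, Matrix.mulVec_add, Matrix.mulVec_smul, Matrix.mulVec_smul, hτe, hτf, smul_smul,
      smul_smul]
  have hnL : ∀ t, cnj (τ t : H) A = A := fun t => hc.tame.eq_of_fx (hp.left.cnj _) hp.left <|
    AddSubgroup.eq_of_le_of_card_ge (fun v hv => by
      obtain ⟨c, hc'⟩ := (fr.mem_left ((τ t : H)⁻¹ • v)).1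
        ((smul_mem_fx_cnj (τ t : H)).1 (by rwa [smul_inv_smul]))
      refine (fr.mem_left v).2 ⟨c * t, ?_⟩
      have h1 := hcoord t _ c 0 (by rw [hc', zero_smul, add_zero])
      rw [smul_inv_smul, zero_mul, zero_smul, add_zero] at h1
      exact h1) (by rw [card_fx_cnj])
  have hnR : ∀ t, cnj (τ t : H) B = B := fun t => hc.tame.eq_of_fx (hp.right.cnj _) hp.right <|
    AddSubgroup.eq_of_le_of_card_ge (fun v hv => by
      obtain ⟨c, hc'⟩ := (fr.mem_right ((τ t : H)⁻¹ • v)).1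
        ((smul_mem_fx_cnj (τ t : H)).1 (by rwa [smul_inv_smul]))
      refine (fr.mem_right v).2 ⟨c * (t⁻¹ : Fˣ), ?_⟩
      have h1 := hcoord t _ 0 c (by rw [hc', zero_smul, zero_add])
      rw [smul_inv_smul, zero_mul, zero_smul, zero_add] at h1
      exact h1) (by rw [card_fx_cnj])
  have hpow : (τ t : H) ^ (Nat.card A - 1) = 1 := by
    have h1 : ∀ k : ℕ,
        (((n.ρ (τ t)) ^ k : SLtwo F) : Matrix (Fin 2) (Fin 2) F) *ᵥ fr.e = ((t : F) ^ k) • fr.e ∧
        (((n.ρ (τ t)) ^ k : SLtwo F) : Matrix (Fin 2) (Fin 2) F) *ᵥ fr.f =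
          (((t⁻¹ : Fˣ) : F) ^ k) • fr.f := by
      intro k
      induction k with
      | zero => simp
      | succ k ih =>
        constructor <;>
          rw [pow_succ (n.ρ (τ t)), Matrix.SpecialLinearGroup.coe_mul, ← Matrix.mulVec_mulVec,
            pow_succ']
        · rw [hτe, Matrix.mulVec_smul, ih.1, smul_smul]
        · rw [hτf, Matrix.mulVec_smul, ih.2, smul_smul]
    rw [← SubmonoidClass.coe_pow, ← Subgroup.coe_one (A ⊔ B)]
    refine congrArg Subtype.val (n.ρ.injective ?_)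
    rw [map_pow, map_one]
    refine Subtype.ext (Matrix.ext_iff_mulVec.2 fun w => ?_)
    obtain ⟨a, b, rfl⟩ := fr.exists_coord w
    rw [Matrix.SpecialLinearGroup.coe_one, Matrix.one_mulVec, Matrix.mulVec_add, Matrix.mulVec_smul,
      Matrix.mulVec_smul, (h1 _).1, (h1 _).2, ← hq,
      FiniteField.pow_card_sub_one_eq_one _ (Units.ne_zero t),
      FiniteField.pow_card_sub_one_eq_one _ (Units.ne_zero t⁻¹), one_smul, one_smul]
  refine ⟨τ t, (τ t).2, hnL t, hpow, hnR t, fun v hv => ?_, fun y hy hyA y' hy' hy'A => ?_⟩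
  · obtain ⟨a, b, hab⟩ := fr.exists_coord (n.π v)
    have h1 := (n.ker _).2 hv
    rw [dev, map_sub, hcoord t v a b hab, hab, add_sub_add_comm, ← sub_smul, ← sub_smul] at h1
    obtain ⟨h3, h4⟩ := fr.coord_zero h1
    have ht' : ((t : Fˣ) : F) ≠ 1 := fun h => ht (Units.ext h)
    have ht'' : ((t⁻¹ : Fˣ) : F) ≠ 1 := fun h => ht (inv_eq_one.1 (Units.ext h))
    have ha : a = 0 := by
      by_contra ha
      exact ht' (mul_left_cancel₀ ha (by rw [mul_one]; exact sub_eq_zero.1 h3))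
    have hb : b = 0 := by
      by_contra hb
      exact ht'' (mul_left_cancel₀ hb (by rw [mul_one]; exact sub_eq_zero.1 h4))
    exact (n.ker v).1 (by rw [hab, ha, hb, zero_smul, zero_smul, add_zero])
  · obtain ⟨c, hc1⟩ := (fr.mem_right y).1 hy
    obtain ⟨c', hc2⟩ := (fr.mem_right y').1 hy'
    have hne : ∀ {w : V} {d : F}, w ∉ fx V A → n.π w = d • fr.f → d ≠ 0 := fun hw hd h0 =>
      hw ((n.ker _).1 (by rw [hd, h0, zero_smul])).1
    set s : Fˣ := Units.mk0 (c / c') (div_ne_zero (hne hyA hc1) (hne hy'A hc2)) with hs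
    refine ⟨τ s, (τ s).2, ?_, hnR s, ?_⟩
    · have h1 : τ s * τ t = τ t * τ s := n.ρ.injective <| by
        rw [map_mul, map_mul]
        refine Subtype.ext (Matrix.ext_iff_mulVec.2 fun w => ?_)
        obtain ⟨a, b, rfl⟩ := fr.exists_coord w
        rw [Matrix.SpecialLinearGroup.coe_mul, Matrix.SpecialLinearGroup.coe_mul,
          ← Matrix.mulVec_mulVec, ← Matrix.mulVec_mulVec]
        simp only [Matrix.mulVec_add, Matrix.mulVec_smul, hτe, hτf, smul_smul]
        congr 2 <;> ring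
      exact congrArg Subtype.val h1
    · refine (n.ker _).1 ?_
      rw [map_sub, hcoord s y 0 c (by rw [hc1, zero_smul, zero_add]), hc2, zero_mul, zero_smul,
        zero_add, sub_eq_zero]
      congr 1
      rw [hs, Units.val_inv_eq_inv_val, Units.val_mk0, inv_div, mul_comm, div_mul_cancel₀]
      exact hne hyA hc1

/-- Every vector off `C_V(A)` lies in the fixed points of a translate of `B`. -/
theorem exists_translate (hc : Std p H V) {F : Type} [Field F] [Fintype F] {B : Subgroup H}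
    (n : NatPair F V A B) (hp : OppPair p V A B) (hq : Fintype.card F = Nat.card A) {v : V}
    (hv : v ∉ fx V A) : ∃ a ∈ A, v ∈ fx V (cnj a B) := by
  obtain ⟨fr⟩ := n.exists_frame hc hp hq
  obtain ⟨α, β, hab⟩ := fr.exists_coord (n.π v)
  have hβ : β ≠ 0 := fun h => hv ((fr.mem_left v).2 ⟨α, by rw [hab, h, zero_smul, add_zero]⟩)
  obtain ⟨y, hy⟩ := n.surj fr.f
  have hyA : y ∉ fx V A := fun h => by
    obtain ⟨c, hc'⟩ := (fr.mem_left y).1 h
    have h1 : (-c) • fr.e + (1 : F) • fr.f = 0 := by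
      rw [← hy, hc', one_smul, neg_smul, neg_add_cancel]
    exact one_ne_zero (fr.coord_zero h1).2
  have hdev : ∀ a : A, ∃ c : F, n.π (dev (a : H) y) = c • fr.e := fun a =>
    (fr.mem_left _).1 (hp.left.quad hc.tame.exp a a.2 y)
  choose g hg using hdev
  have hinj : Function.Injective g := by
    intro a a' he
    by_contra hne
    set b : H := (a' : H)⁻¹ * a with hb
    have hb1 : b ≠ 1 := fun h1 => hne (Subtype.ext (inv_mul_eq_one.1 h1).symm)
    have hbA : b ∈ A := mul_mem (inv_mem a'.2) a.2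
    refine hyA (hp.opp b hbA hb1 y ?_)
    have h1 : dev (a : H) y = dev (a' : H) y + dev b y := by
      rw [← dev_mul_mem hc.tame hp.left a'.2 hbA, hb, mul_inv_cancel_left]
    have h2 : n.π (dev b y) = 0 := by
      have h3 := congrArg n.π h1
      rw [hg, map_add, hg, he] at h3
      exact left_eq_add.1 h3
    exact ((n.ker _).1 h2).2
  obtain ⟨a, ha⟩ := (Function.Injective.bijective_of_nat_card_le hinj (by
    rw [Nat.card_eq_fintype_card, hq])).2 (-α / β)
  refine ⟨(a : H)⁻¹, inv_mem a.2, ?_⟩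
  rw [← smul_inv_smul (a : H)⁻¹ v, inv_inv, smul_mem_fx_cnj]
  refine (fr.mem_right _).2 ⟨β, ?_⟩
  set l : ↥(A ⊔ B) := ⟨(a : H), mem_sup_left a.2⟩ with hl
  have he : ((n.ρ l : SLtwo F) : Matrix (Fin 2) (Fin 2) F) *ᵥ fr.e = fr.e := by
    obtain ⟨w, hw⟩ := n.surj fr.e
    rw [← hw, ← n.smul]
    exact congrArg n.π (((fr.mem_left w).2 ⟨1, by rw [hw, one_smul]⟩) (a : H) a.2)
  have hf : ((n.ρ l : SLtwo F) : Matrix (Fin 2) (Fin 2) F) *ᵥ fr.f =
      g a • fr.e + fr.f := by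
    rw [← hy, ← n.smul, ← hg, ← map_add]
    exact congrArg n.π (by rw [smul_eq, add_comm])
  show n.π ((l : H) • v) = _
  rw [n.smul, hab, Matrix.mulVec_add, Matrix.mulVec_smul, Matrix.mulVec_smul, he, hf, smul_add,
    smul_smul, ha, mul_div_cancel₀ _ hβ, neg_smul]
  abel

end Cfsg.Agent.Lib.FFComp
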