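import Cfsg.Agent.Lib.FFMin.Induction

/-!
# Slots

Fix all members of a Sylow subgroup but one. The members commuting with these fixed ones form a slot.
Two members of a slot lying under different unique maximal subgroups are opposite.
-/

set_option autoImplicit false
set_option linter.unusedSectionVars false

namespace Cfsg.Agent.Lib.FFComp

open Subgroup SL2Recog FFMin
open scoped Pointwise

universe u

variable {H V : Type u} [Group H] [AddCommGroup V] [DistribMulAction H V] {p : ℕ}
  [Finite H] [Finite V] [FaithfulSMul H V] [Fact p.Prime]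

/-- The standing hypotheses with their first consequences. -/
structure Std (p : ℕ) (H V : Type u) [Group H] [AddCommGroup V] [DistribMulAction H V] : Prop where
  hyp : Hyp p H
  moved : Moved p H V
  tame : Tame p H V
  partner : Partner p H V

theorem Std.of_moved (hexp : ∀ v : V, p • v = 0) (h : Hyp p H) (hz : Moved p H V) : Std p H V :=
  ⟨h, hz, (main hexp h).tame hexp hz, ((main hexp h).2 hz).2.1⟩

/-- `O` consists of all members but `A` of the Sylow subgroup `T`. -/
structure Base (p : ℕ) (V : Type*) [AddCommGroup V] [DistribMulAction H V] (O : Set (Subgroup H))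
    (T : Sylow p H) (A : Subgroup H) : Prop where
  mem : A ∈ members p V (T : Subgroup H)
  eq : O = members p V (T : Subgroup H) \ {A}

/-- Members commuting with `O` outside of `O`. -/
structure InSlot (p : ℕ) (V : Type*) [AddCommGroup V] [DistribMulAction H V]
    (O : Set (Subgroup H)) (C : Subgroup H) : Prop where
  mem : Mem p V C
  not_mem : C ∉ O
  comm : ∀ D ∈ O, Comm C D

/-- `cnj` images opposite: no nonzero commutator vector of `A` is fixed by `B`. -/
def Opp (V : Type*) [AddCommGroup V] [DistribMulAction H V] (A B : Subgroup H) : Prop :=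
  ∀ a ∈ A, a ≠ 1 → ∀ v : V, dev a v ∈ fx V B → v ∈ fx V A

variable {O : Set (Subgroup H)} {T : Sylow p H} {A : Subgroup H}

theorem Base.subset (hb : Base p V O T A) : O ⊆ members p V (T : Subgroup H) :=
  hb.eq ▸ Set.sdiff_subset

theorem Base.insert_eq (hb : Base p V O T A) : insert A O = members p V (T : Subgroup H) := by
  rw [hb.eq, Set.insert_sdiff_singleton, Set.insert_eq_of_mem hb.mem]

theorem Base.inSlot (hc : Std p H V) (hb : Base p V O T A) : InSlot p V O A :=
  ⟨hb.mem.1, fun h => (hb.eq ▸ h : A ∈ members p V (T : Subgroup H) \ {A}).2 rfl, fun _ hD =>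
    hc.tame.comm_members T.2 hb.mem.1 hb.mem.2 (hb.subset hD).1 (hb.subset hD).2⟩

theorem ncard_members (T T' : Sylow p H) :
    (members p V (T : Subgroup H)).ncard = (members p V (T' : Subgroup H)).ncard := by
  suffices h : ∀ S S' : Sylow p H,
      (members p V (S : Subgroup H)).ncard ≤ (members p V (S' : Subgroup H)).ncard from
    le_antisymm (h T T') (h T' T)
  intro S S'
  obtain ⟨g, hg⟩ := MulAction.exists_smul_eq H S S'
  refine Set.ncard_le_ncard_of_injOn (cnj g) (fun D hD => ⟨hD.1.cnj g, ?_⟩)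
    (fun D _ D' _ he => map_injective (MulAut.conj g).injective he) (Set.toFinite _)
  rw [← hg, coe_smul_sylow]
  exact cnj_mono g hD.2

/-- The family of a slot element together with `O` is the set of members of a Sylow subgroup. -/
theorem InSlot.exists_base (hc : Std p H V) (hb : Base p V O T A) {C : Subgroup H}
    (hC : InSlot p V O C) : ∃ T' : Sylow p H, Base p V O T' C := by
  have hS : ∀ D ∈ insert C O, Mem p V D := by
    rintro D (rfl | hD)
    · exact hC.mem
    · exact (hb.subset hD).1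
  obtain ⟨hel, -⟩ := meas_sSup_eq hc.tame.bound (S := insert C O)
    (fun D hD => ⟨(hS D hD).elem, (hS D hD).meas_eq⟩) (by
      rintro D (rfl | hD) D' (rfl | hD')
      · exact hC.mem.elem.comm
      · exact hC.comm D' hD'
      · exact (hC.comm D hD).symm
      · exact hc.tame.comm_members T.2 (hb.subset hD).1 (hb.subset hD).2 (hb.subset hD').1
          (hb.subset hD').2)
  obtain ⟨T', hT'⟩ := hel.isPGroup.exists_le_sylow
  have hsub : insert C O ⊆ members p V (T' : Subgroup H) :=
    fun D hD => ⟨hS D hD, (le_sSup hD).trans hT'⟩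
  have heq : insert C O = members p V (T' : Subgroup H) := by
    refine Set.eq_of_subset_of_ncard_le hsub (le_of_eq ?_) (Set.toFinite _)
    rw [ncard_members T' T, ← hb.insert_eq, Set.ncard_insert_of_notMem hC.not_mem,
      Set.ncard_insert_of_notMem (hb.inSlot hc).not_mem]
  exact ⟨T', hsub (Set.mem_insert _ _),
    by rw [← heq, Set.insert_sdiff_self_of_notMem hC.not_mem]⟩

theorem InSlot.eq_of_comm (hc : Std p H V) (hb : Base p V O T A) {C : Subgroup H}
    (hC : InSlot p V O C) (h : Comm A C) : C = A := by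
  by_contra hne
  have hA := hb.inSlot hc
  have hS : ∀ D ∈ insert C (insert A O), Mem p V D := by
    rintro D (rfl | rfl | hD)
    exacts [hC.mem, hA.mem, (hb.subset hD).1]
  obtain ⟨hel, -⟩ := meas_sSup_eq hc.tame.bound (S := insert C (insert A O))
    (fun D hD => ⟨(hS D hD).elem, (hS D hD).meas_eq⟩) (by
      rintro D (rfl | hD) D' (rfl | hD')
      · exact hC.mem.elem.comm
      · rcases hD' with rfl | hD'
        exacts [h.symm, hC.comm D' hD']
      · rcases hD with rfl | hD
        exacts [h, (hC.comm D hD).symm]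
      · rw [hb.insert_eq] at hD hD'
        exact hc.tame.comm_members T.2 hD.1 hD.2 hD'.1 hD'.2)
  obtain ⟨T', hT'⟩ := hel.isPGroup.exists_le_sylow
  have h1 := Set.ncard_le_ncard (s := insert C (insert A O))
    (t := members p V (T' : Subgroup H))
    (fun D hD => ⟨hS D hD, (le_sSup hD).trans hT'⟩) (Set.toFinite _)
  rw [Set.ncard_insert_of_notMem (by
      rintro (rfl | hC')
      exacts [hne rfl, hC.not_mem hC']), hb.insert_eq, ncard_members T' T] at h1
  omega

/-- The group centralising `O`. -/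
def cent (O : Set (Subgroup H)) : Subgroup H := centralizer ((sSup O : Subgroup H) : Set H)

theorem InSlot.le_cent {C : Subgroup H} (hC : InSlot p V O C) : C ≤ cent O := by
  intro c hc
  have : sSup O ≤ centralizer ({c} : Set H) := sSup_le fun D hD d hd =>
    mem_centralizer_singleton_iff.2 (hC.comm D hD c hc d hd).symm
  exact mem_centralizer_iff.2 fun x hx => mem_centralizer_singleton_iff.1 (this hx)

theorem cnj_eq_of_mem_cent {x : H} (hx : x ∈ cent O) {D : Subgroup H} (hD : D ∈ O) :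
    cnj x D = D := by
  have : ∀ d ∈ D, x⁻¹ * d * x = d := fun d hd => by
    rw [mul_assoc, mem_centralizer_iff.1 hx d (le_sSup hD hd), inv_mul_cancel_left]
  ext y
  rw [mem_cnj]
  refine ⟨fun hy => ?_, fun hy => (this y hy).symm ▸ hy⟩
  have h1 := this _ hy
  have h2 : x⁻¹ * y * x = y := by
    have h3 := congrArg (fun w => x * w * x⁻¹) h1
    simpa [mul_assoc] using h3
  exact h2 ▸ hy

theorem InSlot.conj {C : Subgroup H} (hC : InSlot p V O C) {x : H} (hx : x ∈ cent O) :
    InSlot p V O (cnj x C) := by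
  refine ⟨hC.mem.cnj x, fun h => hC.not_mem ?_, fun D hD => ?_⟩
  · have h1 := cnj_eq_of_mem_cent (inv_mem hx) h
    rw [cnj_cnj, inv_mul_cancel, cnj_one] at h1
    exact h1.symm ▸ h
  · exact cnj_eq_of_mem_cent hx hD ▸ (hC.comm D hD).cnj x

theorem Base.memSup_eq (hb : Base p V O T A) :
    sSup O ⊔ A = memSup p V (T : Subgroup H) := by
  rw [memSup, ← hb.insert_eq, sSup_insert, sup_comm]

theorem Base.memSup_ne_bot (hb : Base p V O T A) : memSup p V (T : Subgroup H) ≠ ⊥ := fun h =>
  hb.mem.1.ne_bot (le_bot_iff.1 (h ▸ le_sSup hb.mem))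

theorem Base.normalizer_le (hc : Std p H V) (hb : Base p V O T A) {M : Subgroup H}
    (hM : UMax p M) (hTM : (T : Subgroup H) ≤ M) :
    normalizer (memSup p V (T : Subgroup H) : Set H) ≤ M :=
  hM.2.2 T hTM _ (fun he => hb.memSup_ne_bot (hc.hyp.core _ (normalizer_eq_top_iff.1 he)
    (T.2.to_le (sSup_le fun _ hD => hD.2)))) le_normalizer_memSup

/-- Every Sylow subgroup above `O` and `A` lies in the maximal subgroup of `T`. -/
theorem Base.sylow_le (hc : Std p H V) (hb : Base p V O T A) {M : Subgroup H} (hM : UMax p M)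
    (hTM : (T : Subgroup H) ≤ M) {S : Sylow p H} (hS : sSup O ⊔ A ≤ S) :
    (S : Subgroup H) ≤ M ∧ members p V (S : Subgroup H) = members p V (T : Subgroup H) := by
  have hsub : members p V (T : Subgroup H) ⊆ members p V (S : Subgroup H) := fun D hD =>
    ⟨hD.1, (le_sSup hD).trans (hb.memSup_eq.symm.le.trans hS)⟩
  have heq := Set.eq_of_subset_of_ncard_le hsub (ncard_members S T).le (Set.toFinite _)
  refine ⟨fun s hs => hb.normalizer_le hc hM hTM ?_, heq.symm⟩
  have h1 := (le_normalizer_memSup (p := p) (V := V) (T := (S : Subgroup H))) hs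
  rwa [memSup, ← heq] at h1

/-- A slot element and `O` lie in only one maximal subgroup. -/
theorem InSlot.umax_unique (hc : Std p H V) (hb : Base p V O T A) {C : Subgroup H}
    (hC : InSlot p V O C) {M M' : Subgroup H} (hM : UMax p M) (hM' : UMax p M')
    (h : sSup O ⊔ C ≤ M) (h' : sSup O ⊔ C ≤ M') : M = M' := by
  obtain ⟨T', hb'⟩ := hC.exists_base hc hb
  obtain ⟨M₀, hM₀, hT'M₀⟩ := hc.hyp.exists_umax T'
  have hp : IsPGroup p (↥(sSup O ⊔ C)) :=
    hb'.memSup_eq ▸ T'.2.to_le (sSup_le fun _ hD => hD.2)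
  suffices hu : ∀ N : Subgroup H, UMax p N → sSup O ⊔ C ≤ N → N = M₀ from
    (hu M hM h).trans (hu M' hM' h').symm
  intro N hN hle
  obtain ⟨S, hS, hSN⟩ := exists_sylow_le hN.2.1 hp hle
  have hSM₀ := (hb'.sylow_le hc hM₀ hT'M₀ hS).1
  exact le_antisymm (hM₀.2.2 S hSM₀ _ hN.1 hSN) (hN.2.2 S hSN _ hM₀.1 hSM₀)

theorem InSlot.cnj_not_le (hc : Std p H V) (hb : Base p V O T A) {M : Subgroup H} (hM : UMax p M)
    (hTM : (T : Subgroup H) ≤ M) {x : H} (hx : x ∈ cent O) (hxM : x ∉ M) : ¬ SL2Recog.cnj x A ≤ M := by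
  intro hle
  have hAM : sSup O ⊔ A ≤ M := hb.memSup_eq.le.trans ((sSup_le fun _ hD => hD.2).trans hTM)
  have h2 : sSup O ⊔ SL2Recog.cnj x A ≤ SL2Recog.cnj x M := by
    refine sup_le (sSup_le fun D hD => ?_) (cnj_mono x (le_sup_right.trans hAM))
    exact (cnj_eq_of_mem_cent hx hD).symm.le.trans
      (cnj_mono x ((le_sSup hD).trans (le_sup_left.trans hAM)))
  have he := ((hb.inSlot hc).conj hx).umax_unique hc hb hM (hM.cnj x)
    (sup_le (le_sup_left.trans hAM) hle) h2
  exact hxM (hM.mem_of_normalizer hc.hyp (le_sup_right.trans hAM) hb.mem.1.elem.isPGroup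
    hb.mem.1.ne_bot (mem_normalizer_iff_map_conj_eq.2 he.symm))

/-- The data of a subgroup `X` of the centraliser of `O` outside `M`, acting on the span of the
translates of a vector fixed by a Sylow subgroup. -/
theorem reduce_slot (hc : Std p H V) (hb : Base p V O T A) {M : Subgroup H} (hM : UMax p M)
    (hTM : (T : Subgroup H) ≤ M) {X : Subgroup H} (hEX : sSup O ⊔ A ≤ X) (hX : X ≤ cent O)
    (hXM : ¬ X ≤ M) :
    ∃ (L : Subgroup H) (R : Sylow p L) (W : AddSubgroup V)
      (hW : ∀ g ∈ L, ∀ w ∈ W, g • w ∈ W),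
      L ≤ X ∧ ¬ L ≤ M ∧ sSup O ⊔ A ≤ (R : Subgroup L).map L.subtype ∧
      (R : Subgroup L).map L.subtype ≤ M ∧ (resMap L W hW).ker ≤ M.subgroupOf L ∧
      Hyp p ↥(resAct L W hW).range ∧ UMax p ((M.subgroupOf L).map (resMap L W hW)) ∧
      (∃ z : W, (∀ x ∈ (R : Subgroup L).map (resMap L W hW), x • z = z) ∧
        ∀ g : L, resMap L W hW g • z = z → (g : H) ∈ M) ∧
      (∀ D ∈ O, D.subgroupOf L ≤ (resMap L W hW).ker) ∧
      ¬ A.subgroupOf L ≤ (resMap L W hW).ker := by
  have hEp : IsPGroup p (↥(sSup O ⊔ A)) :=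
    hb.memSup_eq ▸ T.2.to_le (sSup_le fun _ hD => hD.2)
  obtain ⟨RX, hRX⟩ := (hEp.comap_subtype (K := X)).exists_le_sylow
  set R₁ : Subgroup H := (RX : Subgroup X).map X.subtype with hR₁
  have hR₁p : IsPGroup p R₁ := RX.2.map _
  have hER₁ : sSup O ⊔ A ≤ R₁ := fun x hx => ⟨⟨x, hEX hx⟩, hRX hx, rfl⟩
  obtain ⟨S, hS⟩ := hR₁p.exists_le_sylow
  obtain ⟨hSM, hmem⟩ := hb.sylow_le hc hM hTM (hER₁.trans hS)
  have hR₁M : R₁ ≤ M := hS.trans hSM
  obtain ⟨L, ⟨hLX, hRL, hLM⟩, hmin⟩ := (wellFounded_lt (α := Subgroup H)).has_min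
    {Y | Y ≤ X ∧ R₁ ≤ Y ∧ ¬ Y ≤ M} ⟨X, le_rfl, map_subtype_le _, hXM⟩
  let R : Sylow p L :=
    { toSubgroup := R₁.subgroupOf L
      isPGroup' := hR₁p.comap_subtype
      is_maximal' := fun {Q} hQ hle => by
        have h1 : (Q.map L.subtype).subgroupOf X = (RX : Subgroup X) := by
          refine RX.3 ((hQ.map _).comap_subtype) fun x hx => ?_
          have hx' : (x : H) ∈ R₁ := mem_map_of_mem _ hx
          exact ⟨⟨x, hRL hx'⟩, hle hx', rfl⟩
        refine le_antisymm (fun y hy => ?_) hle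
        have h2 : (⟨y, hLX y.2⟩ : X) ∈ (RX : Subgroup X) := h1 ▸ mem_map_of_mem L.subtype hy
        exact mem_map_of_mem X.subtype h2 }
  have hRmap : (R : Subgroup L).map L.subtype = R₁ := map_subgroupOf_eq_of_le hRL
  obtain ⟨z, hzS, hzm⟩ := hc.moved.forall S
  set W := AddSubgroup.closure {v : V | ∃ g ∈ L, v = g • z} with hWdef
  have hW : ∀ g ∈ L, ∀ w ∈ W, g • w ∈ W := by
    intro g hg w hw
    have hle : W ≤ W.comap (DistribSMul.toAddMonoidHom V g) := by
      rw [hWdef, AddSubgroup.closure_le]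
      rintro _ ⟨l, hl, rfl⟩
      show g • l • z ∈ W
      exact AddSubgroup.subset_closure ⟨g * l, L.mul_mem hg hl, (mul_smul g l z).symm⟩
    exact hle hw
  have hzW : z ∈ W := AddSubgroup.subset_closure ⟨1, L.one_mem, (one_smul H z).symm⟩
  have hfixW : ∀ g : L, (∀ x : L, ((x⁻¹ * g * x : L) : H) • z = z) →
      g ∈ (resMap L W hW).ker := by
    intro g hg
    rw [mem_ker_resMap]
    have hle : W ≤ (DistribSMul.toAddMonoidHom V (g : H)).eqLocus (AddMonoidHom.id V) := by
      rw [hWdef, AddSubgroup.closure_le]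
      rintro _ ⟨l, hl, rfl⟩
      have h1 := hg ⟨l, hl⟩
      show (g : H) • l • z = l • z
      simp only [coe_mul, coe_inv, mul_smul, inv_smul_eq_iff] at h1
      exact h1
    exact fun w hw => hle hw
  have hker : (resMap L W hW).ker ≤ M.subgroupOf L := fun g hg =>
    hM.stab_le hSM hzS hzm ((mem_ker_resMap g).1 hg z hzW)
  obtain ⟨hh, hum⟩ := hyp_image (p := p) (resMap L W hW) resMap_surjective R
    (fun h' => hLM (subgroupOf_eq_top.1 h')) (fun x hx => hR₁M hx)
    (fun L' hL' hRL' x hx => by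
      by_contra hxM
      refine hmin (L'.map L.subtype) ⟨(map_subtype_le L').trans hLX, fun r hr =>
        ⟨⟨r, hRL hr⟩, hRL' hr, rfl⟩, fun hle => hxM (hle (mem_map_of_mem _ hx))⟩ ?_
      refine lt_of_le_of_ne (map_subtype_le L') fun he => hL' ?_
      rw [← comap_map_eq_self_of_injective L.subtype_injective L', he]
      exact subgroupOf_self L)
    hker fun N hN hNR g hg => hfixW g fun x => hzS _ (hS (hNR (by
      simpa using hN.conj_mem g hg x⁻¹)))
  have hOk : ∀ D ∈ O, D.subgroupOf L ≤ (resMap L W hW).ker := fun D hD g hg => hfixW g fun x => by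
    have h2 := mem_centralizer_iff.1 (hX (hLX x.2)) (g : H) (le_sSup hD hg)
    have h3 : ((x⁻¹ * g * x : L) : H) = (g : H) := by
      rw [coe_mul, coe_mul, coe_inv, mul_assoc, h2, inv_mul_cancel_left]
    rw [h3]
    exact hzS _ (hS (hER₁ (mem_sup_left (le_sSup hD hg))))
  refine ⟨L, R, W, hW, hLX, hLM, hRmap ▸ hER₁, hRmap ▸ hR₁M, hker, hh, hum,
    ⟨⟨z, hzW⟩, ?_, fun g hg => hM.stab_le hSM hzS hzm (congrArg Subtype.val hg)⟩, hOk, ?_⟩
  · rintro _ ⟨r, hr, rfl⟩
    exact Subtype.ext (hzS _ (hS hr))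
  intro hAk
  refine hLM ?_
  have htop := FusionMod.frattini_inf R (resMap L W hW).ker
  have hle : normalizer (((R : Subgroup L) ⊓ (resMap L W hW).ker : Subgroup L) : Set L) ≤
      M.subgroupOf L := by
    intro y hy
    refine hb.normalizer_le hc hM hTM (mem_normalizer_iff_map_conj_eq.2
      (Subgroup.eq_of_le_of_card_ge ?_ (card_cnj (y : H) _).ge))
    rw [map_le_iff_le_comap]
    refine sSup_le fun D hD d hd => ?_
    have hdR : d ∈ R₁ := hER₁ (hb.memSup_eq ▸ le_sSup hD hd)
    have hdk : (⟨d, hRL hdR⟩ : L) ∈ (R : Subgroup L) ⊓ (resMap L W hW).ker := by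
      refine ⟨hdR, ?_⟩
      by_cases hDA : D = A
      · exact hAk (show d ∈ A from hDA ▸ hd)
      · exact hOk D (hb.eq ▸ ⟨hD, hDA⟩) (show d ∈ D from hd)
    have h4 : (y : H) * d * (y : H)⁻¹ ∈ R₁ := ((mem_normalizer_iff.1 hy _).1 hdk).1
    have h5 : SL2Recog.cnj (y : H) D ≤ S := by
      rintro _ ⟨e, he, rfl⟩
      have heR : e ∈ R₁ := hER₁ (hb.memSup_eq ▸ le_sSup hD he)
      have hek : (⟨e, hRL heR⟩ : L) ∈ (R : Subgroup L) ⊓ (resMap L W hW).ker := by
        refine ⟨heR, ?_⟩
        by_cases hDA : D = A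
        · exact hAk (show e ∈ A from hDA ▸ he)
        · exact hOk D (hb.eq ▸ ⟨hD, hDA⟩) (show e ∈ D from he)
      exact hS ((mem_normalizer_iff.1 hy _).1 hek).1
    exact le_sSup (show SL2Recog.cnj (y : H) D ∈ members p V (T : Subgroup H) from
      hmem ▸ ⟨hD.1.cnj _, h5⟩) (mem_map_of_mem _ hd)
  rw [← subgroupOf_eq_top, eq_top_iff, ← htop]
  exact sup_le hle hker

/-- A slot element outside the maximal subgroup of `A` is opposite to `A`. -/
theorem InSlot.opp (hc : Std p H V) (hb : Base p V O T A) {M : Subgroup H} (hM : UMax p M)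
    (hTM : (T : Subgroup H) ≤ M) {C : Subgroup H} (hC : InSlot p V O C) (hCM : ¬ C ≤ M) :
    Opp V A C := by
  intro a ha ha1 v hv
  by_contra hvA
  set r := dev a v with hr
  have hr0 : r ≠ 0 := fun h => hvA ((hc.tame.fx_eq hb.mem.1 ha ha1).2 h)
  set X : Subgroup H := MulAction.stabilizer H r ⊓ cent O with hXdef
  have hA := hb.inSlot hc
  have hEX : sSup O ⊔ A ≤ X := by
    refine sup_le (le_inf (sSup_le fun D hD => le_stab.2 ?_) ?_)
      (le_inf (le_stab.2 (hb.mem.1.quad hc.tame.exp a ha v)) hA.le_cent)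
    · exact hc.tame.dev_mem_fx hb.mem.1 (hb.subset hD).1
        (fun he => hA.not_mem (he ▸ hD)) (hA.comm D hD) ha v
    · intro x hx
      have hel := (hc.tame.memSup (T := (T : Subgroup H)) T.2).1
      exact mem_centralizer_iff.2 fun y hy => hel.comm y
        (sSup_le_sSup hb.subset hy) x (sSup_le_sSup hb.subset hx)
  have hXM : ¬ X ≤ M := fun hle => hCM ((le_inf (le_stab.2 hv) hC.le_cent).trans hle)
  obtain ⟨L, R, W, hW, hLX, -, hER, hRM, hker, hh, hum, ⟨z, hzR, hzst⟩, -, hAk⟩ :=
    reduce_slot hc hb hM hTM hEX inf_le_right hXM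
  have : Finite ↥(resAct L W hW).range := Finite.of_surjective _ resMap_surjective
  have hAL : A ≤ L := (le_sup_right.trans hER).trans (map_subtype_le _)
  have hAmap : (A.subgroupOf L).map L.subtype = A := map_subgroupOf_eq_of_le hAL
  have hexpW : ∀ w : W, p • w = 0 := fun w => Subtype.ext (hc.tame.exp w)
  have hmov : Moved p ↥(resAct L W hW).range W := by
    refine ⟨R.mapSurjective resMap_surjective, z, hzR, ?_⟩
    by_contra! hall
    exact hum.1 (eq_top_iff.2 fun x _ => by
      obtain ⟨g, rfl⟩ := resMap_surjective x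
      exact mem_map_of_mem _ (hzst g (hall _)))
  obtain ⟨hbI, hm2⟩ := main hexpW hh
  have hAm : Mem p V ((A.subgroupOf L).map L.subtype) := hAmap.symm ▸ hb.mem.1
  obtain ⟨hdisj, hsum, hmemI⟩ := mem_resMap hc.tame.bound hbI hAm hAk
  have hAR : A.subgroupOf L ≤ R := fun x hx => by
    obtain ⟨y, hy, he⟩ := hER (mem_sup_right (show (x : H) ∈ A from hx))
    exact (Subtype.ext he : y = x) ▸ hy
  obtain ⟨g, hg⟩ := (hm2 hmov).2.1 (R.mapSurjective resMap_surjective) _ hum
    (map_mono fun x hx => hRM (mem_map_of_mem L.subtype hx)) _ hmemI (map_mono hAR)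
  obtain ⟨l, rfl⟩ := resMap_surjective g
  have hopp := opp_lift hc.tame hbI hAm hAk hg.opp (hAmap.symm ▸ ha) ha1 (v := v)
  rw [hAmap] at hopp
  refine hvA (hopp fun b hb' => ?_)
  have hlA : cnj (l : H) A ≤ L := cnj_le_of_mem l.2 hAL
  exact MulAction.mem_stabilizer_iff.1 ((hLX (hlA hb')).1)

end Cfsg.Agent.Lib.FFComp
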