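import Cfsg.Agent.Lib.FFComp.Blocks

/-!
# Members of order two and stars of them

A family of pairwise noncommuting members of order two with an even number of elements, in which all
centres are related as in a star, generates a symmetric group on its even-weight module.
-/

set_option autoImplicit false
set_option linter.unusedSectionVars false

namespace Cfsg.Agent.Lib.FFComp

open Subgroup SL2Recog FFMin
open scoped Pointwise
open scoped Classical

universe u

variable {H V : Type u} [Group H] [AddCommGroup V] [DistribMulAction H V] {p : ℕ}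
  [Finite H] [Finite V] [FaithfulSMul H V] [Fact p.Prime]

/-- All members have order two. -/
def AllTwo (p : ℕ) (H V : Type u) [Group H] [AddCommGroup V] [DistribMulAction H V] : Prop :=
  ∀ X : Subgroup H, Mem p V X → Nat.card X = 2

/-- The centre of a transvection subgroup. -/
noncomputable def ctr (V : Type u) [AddCommGroup V] [DistribMulAction H V] (X : Subgroup H) : V :=
  if h : ∃ c : V, c ≠ 0 ∧ ∃ x ∈ X, ∃ v, dev x v = c then h.choose else 0

variable {X Y : Subgroup H}

theorem AllTwo.eq_or (h2 : AllTwo p H V) (hX : Mem p V X) {x y : H} (hx : x ∈ X) (hx1 : x ≠ 1)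
    (hy : y ∈ X) : y = 1 ∨ y = x := by
  by_contra! h
  have h3 : ({1, x, y} : Set H) ⊆ (X : Set H) := by
    rintro z (rfl | rfl | rfl)
    exacts [one_mem X, hx, hy]
  have h4 := Set.ncard_le_ncard h3 (Set.toFinite _)
  rw [Set.ncard_eq_three.2 ⟨1, x, y, hx1.symm, h.1.symm, h.2.symm, rfl⟩,
    ← Nat.card_coe_set_eq, SetLike.coe_sort_coe, h2 X hX] at h4
  omega

theorem AllTwo.eq_two (hc : Std p H V) (h2 : AllTwo p H V) (hX : Mem p V X) : p = 2 := by
  obtain ⟨k, hk⟩ := IsPGroup.iff_card.1 hX.elem.isPGroup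
  have h1 : k ≠ 0 := fun h0 => by rw [h2 X hX, h0, pow_zero] at hk; omega
  exact (Nat.prime_dvd_prime_iff_eq Fact.out Nat.prime_two).1 (h2 X hX ▸ hk ▸ dvd_pow_self p h1)

theorem AllTwo.add_self (hc : Std p H V) (h2 : AllTwo p H V) (hX : Mem p V X) (v : V) :
    v + v = 0 := by
  have := hc.tame.exp v
  rwa [h2.eq_two hc hX, two_nsmul] at this

theorem AllTwo.dev_eq (hc : Std p H V) (h2 : AllTwo p H V) (hX : Mem p V X) {x : H} (hx : x ∈ X)
    (hx1 : x ≠ 1) {v : V} (hv : v ∉ fx V X) : dev x v = ctr V X := by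
  have hne : ∀ w : V, w ∉ fx V X → dev x w ≠ 0 := fun w hw h0 =>
    hw ((hc.tame.fx_eq hX hx hx1).2 h0)
  have hex : ∃ c : V, c ≠ 0 ∧ ∃ y ∈ X, ∃ w, dev y w = c := ⟨_, hne v hv, x, hx, v, rfl⟩
  rw [ctr, dif_pos hex]
  obtain ⟨hc0, y, hy, w, hw⟩ := hex.choose_spec
  rcases h2.eq_or hX hx hx1 hy with rfl | rfl
  · exact absurd (by rw [← hw, dev_one]) hc0
  have hcard : Nat.card (devHom V y).range = 2 := by rw [hc.tame.card_range hX hx hx1, h2 X hX]
  by_contra hd
  have h3 : ({0, dev y v, hex.choose} : Set V) ⊆ ((devHom V y).range : Set V) := by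
    rintro z (rfl | rfl | rfl)
    exacts [zero_mem _, ⟨v, rfl⟩, ⟨w, hw⟩]
  have h4 := Set.ncard_le_ncard h3 (Set.toFinite _)
  rw [Set.ncard_eq_three.2 ⟨0, _, _, (hne v hv).symm, hc0.symm, hd, rfl⟩,
    ← Nat.card_coe_set_eq, SetLike.coe_sort_coe, hcard] at h4
  omega

theorem AllTwo.exists_dev (hc : Std p H V) (h2 : AllTwo p H V) (hX : Mem p V X) :
    ∃ x ∈ X, x ≠ 1 ∧ ∃ v : V, v ∉ fx V X ∧ dev x v = ctr V X := by
  obtain ⟨x, hx, hx1⟩ := exists_ne_one hX.ne_bot
  obtain ⟨v, hv⟩ := exists_notMem_fx (V := V) hX.ne_bot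
  exact ⟨x, hx, hx1, v, hv, h2.dev_eq hc hX hx hx1 hv⟩

theorem AllTwo.ctr_ne (hc : Std p H V) (h2 : AllTwo p H V) (hX : Mem p V X) : ctr V X ≠ 0 := by
  obtain ⟨x, hx, hx1, v, hv, he⟩ := h2.exists_dev hc hX
  exact fun h0 => hv ((hc.tame.fx_eq hX hx hx1).2 (he.trans h0))

theorem AllTwo.dev_mem (hc : Std p H V) (h2 : AllTwo p H V) (hX : Mem p V X) {U : AddSubgroup V}
    (hU : ctr V X ∈ U) {x : H} (hx : x ∈ X) (v : V) : dev x v ∈ U := by
  by_cases hv : v ∈ fx V X
  · rw [dev_eq_zero hx hv]
    exact zero_mem _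
  rcases eq_or_ne x 1 with rfl | hx1
  · rw [dev_one]
    exact zero_mem _
  · rw [h2.dev_eq hc hX hx hx1 hv]
    exact hU

theorem AllTwo.ctr_mem_self (hc : Std p H V) (h2 : AllTwo p H V) (hX : Mem p V X) :
    ctr V X ∈ fx V X := by
  obtain ⟨x, hx, -, v, -, he⟩ := h2.exists_dev hc hX
  exact he ▸ hX.quad hc.tame.exp x hx v

theorem AllTwo.ctr_mem_iff (hc : Std p H V) (h2 : AllTwo p H V) (hX : Mem p V X) (hY : Mem p V Y) :
    ctr V X ∈ fx V Y ↔ Comm X Y := by
  constructor
  · exact fun h => hc.tame.comm_of_le hX hY fun x hx v => h2.dev_mem hc hX h hx v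
  · intro h
    by_cases hne : X = Y
    · exact hne ▸ h2.ctr_mem_self hc hX
    obtain ⟨x, hx, -, v, -, he⟩ := h2.exists_dev hc hX
    exact he ▸ hc.tame.dev_mem_fx hX hY hne h hx v

theorem AllTwo.ctr_cnj (hc : Std p H V) (h2 : AllTwo p H V) (hX : Mem p V X) (g : H) :
    ctr V (cnj g X) = g • ctr V X := by
  obtain ⟨x, hx, hx1, v, hv, he⟩ := h2.exists_dev hc hX
  have h1 := h2.dev_eq hc (hX.cnj g) (x := g * x * g⁻¹) (mem_map_of_mem _ hx)
    (fun h => hx1 (conj_eq_one_iff.1 h)) (v := g • v) (fun h => hv ((smul_mem_fx_cnj g).1 h))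
  rw [← h1, ← smul_dev, he]

theorem AllTwo.smul_ctr (hc : Std p H V) (h2 : AllTwo p H V) (hX : Mem p V X) (hY : Mem p V Y)
    (h : ¬ Comm X Y) {y : H} (hy : y ∈ Y) (hy1 : y ≠ 1) :
    y • ctr V X = ctr V X + ctr V Y := by
  rw [smul_eq, h2.dev_eq hc hY hy hy1 fun h' => h ((h2.ctr_mem_iff hc hX hY).1 h')]

theorem AllTwo.smul_ctr_of_comm (hc : Std p H V) (h2 : AllTwo p H V) (hX : Mem p V X)
    (hY : Mem p V Y) (h : Comm X Y) {y : H} (hy : y ∈ Y) : y • ctr V X = ctr V X :=
  (h2.ctr_mem_iff hc hX hY).2 h y hy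

/-- Centres of commuting members are separated. -/
theorem AllTwo.exists_sep (hc : Std p H V) (h2 : AllTwo p H V) {S : Set (Subgroup H)}
    (hS : ∀ D ∈ S, Mem p V D) (hcomm : ∀ D ∈ S, ∀ D' ∈ S, Comm D D') (hX : X ∈ S) :
    ∃ U : AddSubgroup V, ctr V X ∉ U ∧ ∀ D ∈ S, D ≠ X → ctr V D ∈ U := by
  obtain ⟨hel, -⟩ := meas_sSup_eq hc.tame.bound
    (fun D hD => ⟨(hS D hD).elem, (hS D hD).meas_eq⟩) hcomm
  obtain ⟨T, hT⟩ := hel.isPGroup.exists_le_sylow
  obtain ⟨M, hM, hTM⟩ := hc.hyp.exists_umax T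
  obtain ⟨g, hg⟩ := hc.partner T M hM hTM X (hS X hX) ((le_sSup hX).trans hT)
  refine ⟨fx V (cnj g X), fun h => ?_, fun D hD hne => ?_⟩
  · obtain ⟨x, hx, hx1, v, hv, he⟩ := h2.exists_dev hc (hS X hX)
    exact hv (hg.opp x hx hx1 v (he ▸ h))
  · obtain ⟨x, hx, -, v, -, he⟩ := h2.exists_dev hc (hS D hD)
    exact he ▸ hg.orth D (hS D hD) ((le_sSup hD).trans hT) hne x hx v

variable {ι : Type} [Fintype ι]

/-- The data of a star. -/
structure Star (p : ℕ) (V : Type u) [AddCommGroup V] [DistribMulAction H V] (X : ι → Subgroup H) :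
    Prop where
  mem : ∀ k, Mem p V (X k)
  not_comm : ∀ k l, k ≠ l → ¬ Comm (X k) (X l)
  even : (Fintype.card ι : ZMod 2) = 0
  nontriv : 1 < Fintype.card ι

/-- The indicator of being moved. -/
noncomputable def movedBy (V : Type u) [AddCommGroup V] [DistribMulAction H V]
    (X : ι → Subgroup H) (k : ι) (v : V) : ZMod 2 :=
  if v ∈ fx V (X k) then 0 else 1

/-- A star generates a symmetric group on the even-weight module. -/
theorem Star.isPermBlock (hc : Std p H V) (h2 : AllTwo p H V) {X : ι → Subgroup H}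
    (hs : Star p V X) {n : ℕ} (hn : 1 ≤ n) (hcard : Fintype.card ι = 2 ^ n) :
    IsPermBlock p V (⨆ k, X k) ∧ fx V (⨆ k, X k) ⊔ devSpan V (⨆ k, X k) = ⊤ := by
  obtain ⟨k₀⟩ : Nonempty ι := Fintype.card_pos_iff.1 (by have := hs.nontriv; omega)
  have hadd : ∀ v : V, v + v = 0 := fun v => h2.add_self hc (hs.mem k₀) v
  letI : Module (ZMod 2) V := AddCommGroup.zmodModule fun v => by rw [two_nsmul]; exact hadd v
  choose x hx hx1 using fun k => exists_ne_one (hs.mem k).ne_bot
  set c : ι → V := fun k => ctr V (X k) with hcdef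
  set t : ι → V → ZMod 2 := fun k v => movedBy V X k v with htdef
  have ht0 : ∀ k v, t k v = 0 ↔ v ∈ fx V (X k) := fun k v => by
    simp only [htdef, movedBy]
    split <;> simp [*]
  have hdev : ∀ k v, dev (x k) v = t k v • c k := fun k v => by
    simp only [htdef, movedBy]
    split
    next h => rw [zero_smul, dev_eq_zero (hx k) h]
    next h => rw [one_smul, h2.dev_eq hc (hs.mem k) (hx k) (hx1 k) h]
  have hc0 : ∀ k, c k ≠ 0 := fun k => h2.ctr_ne hc (hs.mem k)
  have htadd : ∀ k v w, t k (v + w) = t k v + t k w := fun k v w => by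
    have h := dev_add (x k) v w
    rw [hdev, hdev, hdev, ← add_smul] at h
    by_contra hne
    have : ∀ a b : ZMod 2, a ≠ b → a - b = 1 := by decide
    have h' := sub_eq_zero.2 h
    rw [← sub_smul, this _ _ hne, one_smul] at h'
    exact hc0 k h'
  have htc : ∀ k l, t l (c k) = 1 + if l = k then 1 else 0 := fun k l => by
    by_cases h : l = k
    · subst h
      rw [if_pos rfl, (ht0 l _).2 (h2.ctr_mem_self hc (hs.mem l))]
      decide
    · rw [if_neg h, add_zero]
      have : c k ∉ fx V (X l) := fun h' =>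
        hs.not_comm k l (Ne.symm h) ((h2.ctr_mem_iff hc (hs.mem k) (hs.mem l)).1 h')
      simp only [htdef, movedBy, if_neg this]
  set S : V → ZMod 2 := fun v => ∑ k, t k v with hS
  let π : V →+ (Option ι → ZMod 2) := AddMonoidHom.mk'
    (fun v o => o.elim (S v) fun k => t k v + S v) fun v w => funext fun o => by
      cases o <;> simp only [hS, htadd, Finset.sum_add_distrib, Option.elim, Pi.add_apply]
      abel
  have hSc : ∀ k, S (c k) = 1 := fun k => by
    rw [hS]
    simp only [htc, Finset.sum_add_distrib, Finset.sum_const, nsmul_eq_mul, mul_one,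
      Finset.card_univ, hs.even, zero_add, Finset.sum_ite_eq', Finset.mem_univ, if_true]
  have hπc : ∀ k l, π (c k) (some l) = if l = k then 1 else 0 := fun k l => by
    show t l (c k) + S (c k) = _
    rw [htc, hSc]
    split <;> decide
  have hker : ∀ v, π v = 0 ↔ v ∈ fx V (⨆ k, X k) := by
    intro v
    constructor
    · intro h
      refine le_stab.1 (iSup_le fun k => le_stab.2 ((ht0 k v).1 ?_))
      have h1 : S v = 0 := congrFun h none
      have h2 : t k v + S v = 0 := congrFun h (some k)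
      rwa [h1, add_zero] at h2
    · intro h
      have h1 : ∀ k, t k v = 0 := fun k => (ht0 k v).2 (fx_anti (le_iSup X k) h)
      funext o
      cases o <;> simp [π, hS, h1]
  let Φ : (ι → ZMod 2) →+ V := AddMonoidHom.mk' (fun f => ∑ k, f k • c k) fun f g => by
    simp only [Pi.add_apply, add_smul, Finset.sum_add_distrib]
  have hπΦ : ∀ f, (∀ l, π (Φ f) (some l) = f l) ∧ π (Φ f) none = ∑ k, f k := by
    intro f
    have h1 : π (Φ f) = ∑ k, f k • π (c k) := by
      show π (∑ k, f k • c k) = _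
      rw [map_sum]
      exact Finset.sum_congr rfl fun k _ => ZMod.map_smul π (f k) (c k)
    refine ⟨fun l => ?_, ?_⟩
    · rw [h1, Finset.sum_apply]
      simp only [Pi.smul_apply, hπc, smul_eq_mul, mul_ite, mul_one, mul_zero,
        Finset.sum_ite_eq, Finset.mem_univ, if_true]
    · rw [h1, Finset.sum_apply]
      refine Finset.sum_congr rfl fun k _ => ?_
      rw [Pi.smul_apply, show π (c k) none = S (c k) from rfl, hSc, smul_eq_mul, mul_one]
  have hsumπ : ∀ v, ∑ o, π v o = 0 := by
    intro v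
    rw [Fintype.sum_option]
    show S v + ∑ k, (t k v + S v) = 0
    rw [Finset.sum_add_distrib, Finset.sum_const, nsmul_eq_mul, Finset.card_univ, hs.even, zero_mul,
      add_zero]
    exact CharTwo.add_self_eq_zero (S v)
  have hrep : ∀ v, ∃ f, π (Φ f) = π v := fun v => by
    refine ⟨fun k => π v (some k), funext fun o => ?_⟩
    cases o with
    | some l => exact (hπΦ _).1 l
    | none =>
      rw [(hπΦ _).2]
      have h := hsumπ v
      rw [Fintype.sum_option] at h
      exact (CharTwo.add_eq_zero.1 h).symm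
  have hΦsurj : ∀ g : Option ι → ZMod 2, ∑ o, g o = 0 → π (Φ fun k => g (some k)) = g := by
    intro g hg
    funext o
    cases o with
    | some l => exact (hπΦ _).1 l
    | none =>
      rw [(hπΦ _).2]
      rw [Fintype.sum_option] at hg
      exact (CharTwo.add_eq_zero.1 hg).symm
  set E := ⨆ k, X k with hE
  have hΦinj : ∀ f, π (Φ f) = 0 → f = 0 := fun f h => funext fun l => by
    rw [← (hπΦ f).1 l, h]
    rfl
  have hrange : E ≤ fxTo Φ.range := iSup_le fun k y hy v =>
    h2.dev_mem hc (hs.mem k) (U := Φ.range) (AddMonoidHom.mem_range.2 ⟨Pi.single k 1, by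
      show ∑ j, (Pi.single k 1 : ι → ZMod 2) j • c j = c k
      simp [Pi.single_apply, ite_smul]⟩) hy v
  have hspan : fx V E ⊔ devSpan V E = ⊤ := by
    refine eq_top_iff.2 fun v _ => ?_
    obtain ⟨f, hf⟩ := hrep v
    refine AddSubgroup.mem_sup.2 ⟨v - Φ f, ?_, Φ f, ?_, sub_add_cancel v (Φ f)⟩
    · rw [← hker, map_sub, hf, sub_self]
    · show ∑ k, f k • c k ∈ devSpan V E
      refine sum_mem fun k _ => ?_
      rcases (show ∀ a : ZMod 2, a = 0 ∨ a = 1 by decide) (f k) with h | h
      · rw [h, zero_smul]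
        exact zero_mem _
      · obtain ⟨y, hy, -, w, -, hw⟩ := h2.exists_dev hc (hs.mem k)
        rw [h, one_smul]
        show ctr V (X k) ∈ _
        exact hw ▸ dev_mem_devSpan (mem_iSup_of_mem k hy) w
  refine ⟨?_, hspan⟩
  -- the graph of the action
  let R : Subgroup (↥E × Equiv.Perm (Option ι)) :=
    { carrier := {r | ∀ v o, π ((r.1 : H) • v) o = π v (r.2⁻¹ o)}
      one_mem' := fun v o => by simp
      mul_mem' := fun {r r'} hr hr' v o => by
        show π (((r.1 * r'.1 : ↥E) : H) • v) o = π v ((r.2 * r'.2)⁻¹ o)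
        rw [coe_mul, mul_smul, hr, hr', mul_inv_rev]
        rfl
      inv_mem' := fun {r} hr v o => by
        have h := hr ((r.1 : H)⁻¹ • v) (r.2 o)
        rw [smul_inv_smul, show r.2⁻¹ (r.2 o) = o from r.2.symm_apply_apply o] at h
        show π (((r.1⁻¹ : ↥E) : H) • v) o = π v (r.2⁻¹⁻¹ o)
        rw [inv_inv, coe_inv]
        exact h.symm }
  have hgen : ∀ k, ((⟨x k, mem_iSup_of_mem k (hx k)⟩ : ↥E), Equiv.swap (some k) none) ∈ R := by
    intro k v o
    show π (x k • v) o = π v ((Equiv.swap (some k) none)⁻¹ o)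
    rw [Equiv.swap_inv, smul_eq, hdev, map_add, ZMod.map_smul, Pi.add_apply, Pi.smul_apply,
      smul_eq_mul]
    cases o with
    | none =>
      rw [Equiv.swap_apply_right, show π (c k) none = S (c k) from rfl, hSc, mul_one]
      show S v + t k v = t k v + S v
      exact add_comm _ _
    | some l =>
      by_cases hl : l = k
      · subst hl
        rw [Equiv.swap_apply_left, hπc, if_pos rfl, mul_one]
        show t l v + S v + t l v = S v
        exact (show ∀ a b : ZMod 2, a + b + a = b by decide) _ _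
      · rw [Equiv.swap_apply_of_ne_of_ne (fun h => hl (Option.some_injective _ h)) (by simp), hπc,
          if_neg hl, mul_zero, add_zero]
  let f₁ := (MonoidHom.fst ↥E (Equiv.Perm (Option ι))).comp R.subtype
  let f₂ := (MonoidHom.snd ↥E (Equiv.Perm (Option ι))).comp R.subtype
  have h1surj : Function.Surjective f₁ := by
    rw [← MonoidHom.range_eq_top, eq_top_iff]
    have hle : E ≤ f₁.range.map E.subtype := iSup_le fun k y hy => by
      rcases h2.eq_or (hs.mem k) (hx k) (hx1 k) hy with rfl | rfl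
      · exact one_mem _
      · exact ⟨_, ⟨⟨_, hgen k⟩, rfl⟩, rfl⟩
    intro e _
    obtain ⟨e', he', hee⟩ := hle e.2
    exact (Subtype.ext hee : e' = e) ▸ he'
  have h2surj : Function.Surjective f₂ := by
    rw [← MonoidHom.range_eq_top, eq_top_iff, ← Equiv.Perm.closure_isSwap, closure_le]
    rintro _ ⟨a, b, hab, rfl⟩
    have hm : ∀ k, Equiv.swap (some k) none ∈ f₂.range := fun k => ⟨⟨_, hgen k⟩, rfl⟩
    cases a with
    | none =>
      cases b with
      | none => exact absurd rfl hab
      | some l => exact Equiv.swap_comm (some l) none ▸ hm l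
    | some k =>
      cases b with
      | none => exact hm k
      | some l =>
        rw [SetLike.mem_coe, ← Equiv.swap_mul_swap_mul_swap (x := some l) (y := none) (z := some k)
          (by simp) (by simpa using Ne.symm hab)]
        rw [Equiv.swap_comm none (some k)]
        exact mul_mem (mul_mem (hm k) (hm l)) (hm k)
  have h1inj : Function.Injective f₁ := by
    refine (injective_iff_map_eq_one f₁).2 fun r hr => Subtype.ext (Prod.ext hr ?_)
    show r.1.2 = 1
    have hfix : ∀ (g : Option ι → ZMod 2), ∑ o, g o = 0 → ∀ o, g o = g (r.1.2⁻¹ o) := by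
      intro g hg o
      have h := r.2 (Φ fun k => g (some k)) o
      rw [show r.1.1 = 1 from hr, coe_one, one_smul, hΦsurj g hg] at h
      exact h
    have hkey : ∀ k, r.1.2⁻¹ none = none ∨ r.1.2⁻¹ none = some k := by
      intro k
      have h := hfix (π (c k)) (hsumπ _) none
      rw [show π (c k) none = S (c k) from rfl, hSc] at h
      cases hh : r.1.2⁻¹ none with
      | none => exact Or.inl rfl
      | some l =>
        rw [hh, hπc] at h
        by_cases hl : l = k
        · exact Or.inr (by rw [hl])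
        · rw [if_neg hl] at h
          exact absurd h one_ne_zero
    obtain ⟨k₁, k₂, hk⟩ := Fintype.one_lt_card_iff.1 hs.nontriv
    have hnone : r.1.2⁻¹ none = none := by
      rcases hkey k₁ with h | h
      · exact h
      rcases hkey k₂ with h' | h'
      · exact h'
      · exact absurd (Option.some_injective _ (h.symm.trans h')) hk
    refine inv_eq_one.1 (Equiv.ext fun o => ?_)
    cases o with
    | none => exact hnone
    | some l =>
      have h := hfix (π (c l)) (hsumπ _) (some l)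
      rw [hπc, if_pos rfl] at h
      cases hh : r.1.2⁻¹ (some l) with
      | none => exact absurd ((r.1.2⁻¹).injective (hh.trans hnone.symm)) (by simp)
      | some j =>
        rw [hh, hπc] at h
        by_cases hj : j = l
        · rw [hj]
          rfl
        · rw [if_neg hj] at h
          exact absurd h one_ne_zero
  have h2inj : Function.Injective f₂ := by
    refine (injective_iff_map_eq_one f₂).2 fun r hr => Subtype.ext (Prod.ext ?_ hr)
    refine Subtype.ext (eq_one_of_dev fun v : V => ?_)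
    obtain ⟨f, hf⟩ := hrange r.1.1.2 v
    have h0 : π (dev (r.1.1 : H) v) = 0 := funext fun o => by
      have h := r.2 v o
      rw [show r.1.2 = 1 from hr, inv_one, Equiv.Perm.one_apply] at h
      rw [dev, map_sub, Pi.sub_apply, h, sub_self]
      rfl
    rw [← hf] at h0 ⊢
    rw [hΦinj f h0, map_zero]
  have hcard' : Fintype.card (Option ι) = 2 ^ n + 1 := by rw [Fintype.card_option, hcard]
  let e := Fintype.equivFinOfCardEq hcard'
  let ρ₀ : ↥E ≃* Equiv.Perm (Option ι) :=
    (MulEquiv.ofBijective f₁ ⟨h1inj, h1surj⟩).symm.trans (MulEquiv.ofBijective f₂ ⟨h2inj, h2surj⟩)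
  have hρ₀ : ∀ (y : ↥E) (v : V) (o : Option ι), π ((y : H) • v) o = π v ((ρ₀ y)⁻¹ o) := by
    intro y v o
    obtain ⟨r, rfl⟩ := h1surj y
    have : ρ₀ (f₁ r) = f₂ r := by
      show f₂ ((MulEquiv.ofBijective f₁ ⟨h1inj, h1surj⟩).symm (f₁ r)) = f₂ r
      congr 1
      exact (MulEquiv.ofBijective f₁ ⟨h1inj, h1surj⟩).symm_apply_apply r
    rw [this]
    exact r.2 v o
  let π' : V →+ (Fin (2 ^ n + 1) → ZMod 2) := AddMonoidHom.mk' (fun v i => π v (e.symm i))
    fun v w => funext fun i => by simp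
  refine ⟨h2.eq_two hc (hs.mem k₀), n, hn, ρ₀.trans e.permCongrHom, π', fun v => ?_,
    fun g hg => ?_, fun v => ?_, fun y v i => ?_⟩
  · show ∑ i, π v (e.symm i) = 0
    rw [e.symm.sum_comp (π v)]
    exact hsumπ v
  · refine ⟨Φ fun k => g (e (some k)), funext fun i => ?_⟩
    show π _ (e.symm i) = g i
    rw [hΦsurj (fun o => g (e o)) (by rw [e.sum_comp g]; exact hg)]
    exact congrArg g (e.apply_symm_apply i)
  · rw [← hker]
    constructor
    · intro h
      funext o
      simpa [π'] using congrFun h (e o)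
    · intro h
      funext i
      show π v (e.symm i) = 0
      rw [h]
      rfl
  · show π ((y : H) • v) (e.symm i) = π v (e.symm ((e.permCongr (ρ₀ y))⁻¹ i))
    rw [hρ₀]
    refine congrArg (π v) ?_
    show (ρ₀ y).symm (e.symm i) = e.symm ((e.permCongr (ρ₀ y)).symm i)
    simp [Equiv.permCongr_def]

end Cfsg.Agent.Lib.FFComp
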