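import Cfsg.Agent.Lib.FFComp.Large
import Cfsg.Agent.Lib.FFComp.Transvection

/-!
# Members of order two

Slots whose partners do not commute form clusters; each cluster is a star.
-/

set_option autoImplicit false
set_option linter.unusedSectionVars false

namespace Cfsg.Agent.Lib.FFComp

open Subgroup SL2Recog FFMin
open scoped Pointwise
open scoped Classical

universe u

variable {H V : Type u} [Group H] [AddCommGroup V] [DistribMulAction H V] {p : ℕ}
  [Finite H] [Finite V] [FaithfulSMul H V] [Fact p.Prime]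
  {T : Sylow p H} {M : Subgroup H}

/-- A partner together with its second translate. -/
structure Duo (p : ℕ) (V : Type u) [AddCommGroup V] [DistribMulAction H V] (T M : Subgroup H)
    (A B C : Subgroup H) : Prop where
  part : Part p V T M A B
  eq : ∃ a ∈ A, a ≠ 1 ∧ C = cnj a B

variable {A B C A' B' C' A'' B'' C'' : Subgroup H}

/-- Membership in the two-element set `{B, C}`. -/
abbrev In2 (X B C : Subgroup H) : Prop := X = B ∨ X = C

theorem Duo.slot (hc : Std p H V) (hA : A ∈ members p V (T : Subgroup H))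
    (h : Duo p V (T : Subgroup H) M A B C) {X : Subgroup H} (hX : In2 X B C) :
    InSlot p V (members p V (T : Subgroup H) \ {A}) X := by
  obtain ⟨a, ha, -, rfl⟩ := h.eq
  rcases hX with rfl | rfl
  · exact h.part.slot
  · exact h.part.slot.conj (((Base.mk hA rfl : Base p V _ T A).inSlot hc).le_cent ha)

theorem Duo.not_le' (hTM : (T : Subgroup H) ≤ M) (hA : A ∈ members p V (T : Subgroup H))
    (h : Duo p V (T : Subgroup H) M A B C) {X : Subgroup H} (hX : In2 X B C) : ¬ X ≤ M := by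
  obtain ⟨a, ha, -, rfl⟩ := h.eq
  rcases hX with rfl | rfl
  · exact h.part.not_le
  · intro hle
    refine h.part.not_le ?_
    have h1 := cnj_le_of_mem (inv_mem (hTM (hA.2 ha))) hle
    rwa [cnj_cnj, inv_mul_cancel, cnj_one] at h1

theorem Duo.not_comm_left (hc : Std p H V) (hTM : (T : Subgroup H) ≤ M)
    (hA : A ∈ members p V (T : Subgroup H)) (h : Duo p V (T : Subgroup H) M A B C) {X : Subgroup H}
    (hX : In2 X B C) : ¬ Comm A X := fun hcm =>
  h.not_le' hTM hA hX (((h.slot hc hA hX).eq_of_comm hc (Base.mk hA rfl) hcm).le.trans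
    (hA.2.trans hTM))

theorem Duo.centre (hc : Std p H V) (h2 : AllTwo p H V) (hTM : (T : Subgroup H) ≤ M)
    (hA : A ∈ members p V (T : Subgroup H)) (h : Duo p V (T : Subgroup H) M A B C) :
    ctr V C = ctr V B + ctr V A := by
  have hnc := h.not_comm_left hc hTM hA (Or.inl rfl)
  obtain ⟨a, ha, ha1, rfl⟩ := h.eq
  rw [h2.ctr_cnj hc h.part.slot.mem,
    h2.smul_ctr hc h.part.slot.mem hA.1 (fun hcm => hnc hcm.symm) ha ha1]

theorem Duo.not_comm (hc : Std p H V) (h2 : AllTwo p H V) (hTM : (T : Subgroup H) ≤ M)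
    (hA : A ∈ members p V (T : Subgroup H)) (h : Duo p V (T : Subgroup H) M A B C) :
    ¬ Comm B C := fun hcm => by
  have hnc := h.not_comm_left hc hTM hA (Or.inl rfl)
  have hB := h.part.slot.mem
  have h1 := (h2.ctr_mem_iff hc (h.slot hc hA (Or.inr rfl)).mem hB).2 hcm.symm
  rw [h.centre hc h2 hTM hA] at h1
  exact hnc ((h2.ctr_mem_iff hc hA.1 hB).1 (by simpa using sub_mem h1 (h2.ctr_mem_self hc hB)))

theorem Duo.trichotomy (hc : Std p H V) (h2 : AllTwo p H V) (hM : UMax p M)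
    (hTM : (T : Subgroup H) ≤ M) (hA : A ∈ members p V (T : Subgroup H))
    (h : Duo p V (T : Subgroup H) M A B C) {X : Subgroup H}
    (hX : InSlot p V (members p V (T : Subgroup H) \ {A}) X) (hne : X ≠ A) : In2 X B C := by
  obtain ⟨a, ha, rfl⟩ := h.part.eq_translate hc hM hTM hA hX hne
  obtain ⟨a₀, ha₀, ha₀1, rfl⟩ := h.eq
  rcases h2.eq_or hA.1 ha₀ ha₀1 ha with rfl | rfl
  · exact Or.inl (cnj_one B)
  · exact Or.inr rfl

theorem Duo.left_le (hc : Std p H V) (h2 : AllTwo p H V) (hM : UMax p M)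
    (hTM : (T : Subgroup H) ≤ M) (hA : A ∈ members p V (T : Subgroup H))
    (h : Duo p V (T : Subgroup H) M A B C) : A ≤ B ⊔ C := by
  have hB := h.part.slot.mem
  have hC := (h.slot hc hA (Or.inr rfl)).mem
  obtain ⟨b, hb, hb1⟩ := exists_ne_one hB.ne_bot
  have hctr : ctr V (cnj b C) = ctr V A := by
    rw [h2.ctr_cnj hc hC, h2.smul_ctr hc hC hB (fun hcm => h.not_comm hc h2 hTM hA hcm.symm) hb hb1,
      h.centre hc h2 hTM hA, add_right_comm, h2.add_self hc hB, zero_add]
  have hsl := (h.slot hc hA (Or.inr rfl)).conj (h.part.slot.le_cent hb)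
  have heq : cnj b C = A := by
    by_contra hne
    have hA0 := h2.ctr_ne hc hA.1
    rcases h.trichotomy hc h2 hM hTM hA hsl hne with he | he <;> rw [he] at hctr
    · refine h.not_comm_left hc hTM hA (Or.inl rfl) ((h2.ctr_mem_iff hc hA.1 hB).1 ?_)
      exact hctr ▸ h2.ctr_mem_self hc hB
    · rw [h.centre hc h2 hTM hA, add_eq_right] at hctr
      exact h2.ctr_ne hc hB hctr
  exact heq ▸ cnj_le_of_mem (mem_sup_left hb) le_sup_right

theorem Duo.comm_other (hc : Std p H V) (hA : A ∈ members p V (T : Subgroup H))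
    (hA' : A' ∈ members p V (T : Subgroup H)) (hne : A' ≠ A)
    (h : Duo p V (T : Subgroup H) M A B C) {X : Subgroup H} (hX : In2 X B C) : Comm X A' :=
  (h.slot hc hA hX).comm A' ⟨hA', hne⟩

theorem cnj_comm_iff {g : H} {X Y : Subgroup H} : Comm (cnj g X) (cnj g Y) ↔ Comm X Y := by
  refine ⟨fun h => ?_, fun h => h.cnj g⟩
  have h1 := h.cnj g⁻¹
  rwa [cnj_cnj, cnj_cnj, inv_mul_cancel, cnj_one, cnj_one] at h1

theorem Duo.comm_iff (hc : Std p H V) (hA : A ∈ members p V (T : Subgroup H))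
    (hA' : A' ∈ members p V (T : Subgroup H)) (hne : A' ≠ A)
    (h : Duo p V (T : Subgroup H) M A B C) (h' : Duo p V (T : Subgroup H) M A' B' C')
    {X Y : Subgroup H} (hX : In2 X B C) (hY : In2 Y B' C') : Comm X Y ↔ Comm B B' := by
  have step : Comm X Y ↔ Comm B Y := by
    rcases hX with rfl | rfl
    · rfl
    · obtain ⟨a, ha, -, rfl⟩ := h.eq
      conv_lhs => rw [← cnj_eq_of_comm (h'.comm_other hc hA' hA hne.symm hY) ha]
      exact cnj_comm_iff
  rw [step]
  rcases hY with rfl | rfl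
  · rfl
  · obtain ⟨a, ha, -, rfl⟩ := h'.eq
    conv_lhs => rw [← cnj_eq_of_comm (h.comm_other hc hA hA' hne (Or.inl rfl)) ha]
    exact cnj_comm_iff

/-- Noncommuting of partners of three slots is transitive. -/
theorem Duo.trans (hc : Std p H V) (h2 : AllTwo p H V) (hTM : (T : Subgroup H) ≤ M)
    (hA : A ∈ members p V (T : Subgroup H)) (hA' : A' ∈ members p V (T : Subgroup H))
    (hA'' : A'' ∈ members p V (T : Subgroup H)) (hne : A ≠ A') (hne' : A' ≠ A'') (hne'' : A ≠ A'')
    (h : Duo p V (T : Subgroup H) M A B C) (h' : Duo p V (T : Subgroup H) M A' B' C')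
    (h'' : Duo p V (T : Subgroup H) M A'' B'' C'') (h1 : ¬ Comm B B') (h1' : ¬ Comm B' B'') :
    ¬ Comm B B'' := by
  intro hcomm
  have hB := h.part.slot.mem
  have hB' := h'.part.slot.mem
  have hB'' := h''.part.slot.mem
  obtain ⟨b', hb', hb'1⟩ := exists_ne_one hB'.ne_bot
  obtain ⟨a', ha', ha'1⟩ := exists_ne_one hA'.1.ne_bot
  obtain ⟨b'', hb'', hb''1⟩ := exists_ne_one hB''.ne_bot
  set W := cnj (b' * b'' * a' * b') B with hWdef
  have hW : Mem p V W := hB.cnj _
  have c1 : Comm B A' := h.comm_other hc hA hA' hne.symm (Or.inl rfl)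
  have c3 : Comm A' B'' := (h''.comm_other hc hA'' hA' hne' (Or.inl rfl)).symm
  have n2 : ¬ Comm B' A' := fun hcm => h'.not_comm_left hc hTM hA' (Or.inl rfl) hcm.symm
  have e1 := h2.smul_ctr hc hB hB' h1 hb' hb'1
  have e2 := h2.smul_ctr_of_comm hc hB hA'.1 c1 ha'
  have e3 := h2.smul_ctr hc hB' hA'.1 n2 ha' ha'1
  have e4 := h2.smul_ctr_of_comm hc hB hB'' hcomm hb''
  have e5 := h2.smul_ctr hc hB' hB'' h1' hb'' hb''1
  have e6 := h2.smul_ctr_of_comm hc hA'.1 hB'' c3 hb''
  have e7 := h2.smul_ctr_of_comm hc hB' hB' hB'.elem.comm hb'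
  have e8 := h2.smul_ctr hc hB'' hB' (fun hcm => h1' hcm.symm) hb' hb'1
  have e9 := h2.smul_ctr hc hA'.1 hB' (fun hcm => n2 hcm.symm) hb' hb'1
  have hcW : ctr V W = ctr V B + ctr V A' + ctr V B'' := by
    rw [hWdef, h2.ctr_cnj hc hB, mul_smul, mul_smul, mul_smul, e1, smul_add a', e2, e3]
    simp only [smul_add, e4, e5, e6]
    simp only [smul_add, e1, e7, e8, e9]
    have e : ctr V B + ctr V B' + (ctr V B' + (ctr V B'' + ctr V B') + (ctr V A' + ctr V B')) =
        ctr V B + ctr V A' + ctr V B'' + ((ctr V B' + ctr V B') + (ctr V B' + ctr V B')) := by abel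
    simp only [e, h2.add_self hc hB, add_zero]
  have hsum : ∀ Y : Subgroup H, Mem p V Y → Comm B Y → Comm A' Y → Comm B'' Y → Comm W Y :=
    fun Y hY k1 k2 k3 => (h2.ctr_mem_iff hc hW hY).1 (by
      rw [hcW]
      exact add_mem (add_mem ((h2.ctr_mem_iff hc hB hY).2 k1) ((h2.ctr_mem_iff hc hA'.1 hY).2 k2))
        ((h2.ctr_mem_iff hc hB'' hY).2 k3))
  have w1 : Comm W B := hsum B hB hB.elem.comm c1.symm hcomm.symm
  have w2 : Comm W A' := hsum A' hA'.1 c1 hA'.1.elem.comm c3.symm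
  have w3 : Comm W B'' := hsum B'' hB'' hcomm c3 hB''.elem.comm
  set S : Set (Subgroup H) := {B, A', B'', W} with hS
  have hSm : ∀ D ∈ S, Mem p V D := by
    rintro D (rfl | rfl | rfl | rfl)
    exacts [hB, hA'.1, hB'', hW]
  have hSc : ∀ D ∈ S, ∀ D' ∈ S, Comm D D' := by
    rintro D (rfl | rfl | rfl | rfl) D' (rfl | rfl | rfl | rfl) <;>
      first
        | exact hB.elem.comm | exact hA'.1.elem.comm | exact hB''.elem.comm | exact hW.elem.comm
        | exact c1 | exact c1.symm | exact hcomm | exact hcomm.symm | exact c3 | exact c3.symm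
        | exact w1 | exact w1.symm | exact w2 | exact w2.symm | exact w3 | exact w3.symm
  have hBA' : B ≠ A' := fun he => h.part.not_le (he ▸ hA'.2.trans hTM)
  have hBA'' : B'' ≠ A' := fun he => h''.part.not_le (he ▸ hA'.2.trans hTM)
  have hBB : B ≠ B'' := fun he =>
    h.not_comm_left hc hTM hA (Or.inl rfl)
      (he ▸ (h''.comm_other hc hA'' hA hne'' (Or.inl rfl)).symm)
  have hWA : W ≠ A' := fun he => by
    rw [he] at hcW
    obtain ⟨U, hU, hU'⟩ := h2.exists_sep hc hSm hSc (show B ∈ S from Or.inl rfl)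
    refine hU ?_
    have h3 : ctr V B = ctr V B'' := by
      have h4 : ctr V B + ctr V B'' = 0 := by
        have h5 : ctr V A' + (ctr V B + ctr V B'') = ctr V A' + 0 := by
          rw [add_zero]
          conv_rhs => rw [hcW]
          abel
        exact add_left_cancel h5
      exact add_right_cancel (h4.trans (h2.add_self hc hB _).symm)
    exact h3 ▸ hU' B'' (by simp [hS]) hBB.symm
  obtain ⟨U, hU, hU'⟩ := h2.exists_sep hc hSm hSc (show A' ∈ S from Or.inr (Or.inl rfl))
  refine hU ?_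
  have h3 : ctr V A' = ctr V W - ctr V B - ctr V B'' := by rw [hcW]; abel
  rw [h3]
  exact sub_mem (sub_mem (hU' W (by simp [hS]) hWA) (hU' B (by simp [hS]) hBA'))
    (hU' B'' (by simp [hS]) hBA'')

/-- The blocks when members have order two. -/
theorem exists_split_small (hc : Std p H V) (hM : UMax p M) (hTM : (T : Subgroup H) ≤ M)
    {A₀ : Subgroup H} (hA₀ : A₀ ∈ members p V (T : Subgroup H)) (h2 : AllTwo p H V) :
    ∃ (ι : Type u) (_ : Finite ι) (_ : Nonempty ι) (E : ι → Subgroup H),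
      Split V (T : Subgroup H) E ∧ (∀ i, IsPermBlock p V (E i)) ∧
      (∀ i, E i ≤ sSup {D | Mem p V D}) ∧ ∀ D ∈ members p V (T : Subgroup H), D ≤ ⨆ i, E i := by
  set 𝕄 : Type u := ↥(members p V (T : Subgroup H))
  have hex : ∀ i : 𝕄, ∃ B C, Duo p V (T : Subgroup H) M i B C := fun i => by
    obtain ⟨B, hB⟩ := exists_part hc hM hTM i.2
    obtain ⟨a, ha, ha1⟩ := exists_ne_one i.2.1.ne_bot
    exact ⟨B, cnj a B, hB, a, ha, ha1, rfl⟩
  choose B C hD using hex
  have hne : ∀ i j : 𝕄, i ≠ j → (i : Subgroup H) ≠ j := fun i j h he => h (Subtype.ext he)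
  let N : 𝕄 → 𝕄 → Prop := fun i j => i = j ∨ ¬ Comm (B i) (B j)
  have hrefl : ∀ i, N i i := fun i => Or.inl rfl
  have hsymm : ∀ {i j}, N i j → N j i := fun {i j} h =>
    h.imp Eq.symm fun h' hcm => h' hcm.symm
  have htrans : ∀ {i j k}, N i j → N j k → N i k := fun {i j k} h h' => by
    rcases eq_or_ne i k with rfl | hik
    · exact hrefl i
    rcases h with rfl | h
    · exact h'
    rcases h' with rfl | h'
    · exact Or.inr h
    refine Or.inr ((hD i).trans hc h2 hTM i.2 j.2 k.2 (hne _ _ ?_) (hne _ _ ?_) (hne _ _ hik)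
      (hD j) (hD k) h h')
    · rintro rfl
      exact h (hD i).part.slot.mem.elem.comm
    · rintro rfl
      exact h' (hD j).part.slot.mem.elem.comm
  let σ : ↥(T : Subgroup H) → 𝕄 → 𝕄 := fun t i => ⟨cnj (t : H) i, members_conj i.2 t.2⟩
  have hσ : ∀ (t : ↥(T : Subgroup H)) (i : 𝕄) {X : Subgroup H}, In2 X (B i) (C i) →
      In2 (cnj (t : H) X) (B (σ t i)) (C (σ t i)) := fun t i X hX => by
    refine (hD (σ t i)).trichotomy hc h2 hM hTM (σ t i).2
      (inSlot_cnj t.2 ((hD i).slot hc i.2 hX)) fun he => (hD i).not_le' hTM i.2 hX ?_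
    rw [map_injective (f := (MulAut.conj (t : H)).toMonoidHom) (MulAut.conj (t : H)).injective he]
    exact i.2.2.trans hTM
  have hσinj : ∀ (t : ↥(T : Subgroup H)) (i j : 𝕄), σ t i = σ t j → i = j := fun t i j h => Subtype.ext
    (map_injective (f := (MulAut.conj (t : H)).toMonoidHom) (MulAut.conj (t : H)).injective
      (congrArg Subtype.val h))
  have hNσ : ∀ (t : ↥(T : Subgroup H)) (i j : 𝕄), N (σ t i) (σ t j) ↔ N i j := fun t i j => by
    by_cases hij : i = j
    · subst hij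
      exact iff_of_true (hrefl _) (hrefl _)
    have hij' : σ t i ≠ σ t j := fun h => hij (hσinj t i j h)
    have h1 := (hD (σ t i)).comm_iff hc (σ t i).2 (σ t j).2 (hne _ _ hij'.symm) (hD (σ t j))
      (hσ t i (Or.inl rfl)) (hσ t j (Or.inl rfl))
    rw [cnj_comm_iff] at h1
    simp only [N, hij, hij', false_or]
    rw [h1]
  let K : 𝕄 → Set 𝕄 := fun i => {j | N i j}
  let Xf : ∀ i, (↥(K i) ⊕ ↥(K i)) → Subgroup H := fun i =>
    Sum.elim (fun j => B j) (fun j => C j)
  let E : 𝕄 → Subgroup H := fun i => ⨆ k, Xf i k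
  have hE : ∀ {i j} {X : Subgroup H}, N i j → In2 X (B j) (C j) → X ≤ E i := by
    intro i j X hij hX
    rcases hX with rfl | rfl
    · exact le_iSup (Xf i) (Sum.inl ⟨j, hij⟩)
    · exact le_iSup (Xf i) (Sum.inr ⟨j, hij⟩)
  have hEle : ∀ i (U : Subgroup H),
      (∀ j, N i j → ∀ X, In2 X (B j) (C j) → X ≤ U) → E i ≤ U := fun i U h => iSup_le fun k => by
    rcases k with ⟨j, hj⟩ | ⟨j, hj⟩
    · exact h j hj _ (Or.inl rfl)
    · exact h j hj _ (Or.inr rfl)
  have hEeq : ∀ {i j}, N i j → E i = E j := fun {i j} hij => le_antisymm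
    (hEle i _ fun k hk X hX => hE (htrans (hsymm hij) hk) hX)
    (hEle j _ fun k hk X hX => hE (htrans hij hk) hX)
  have hEσ : ∀ (t : ↥(T : Subgroup H)) (i : 𝕄), cnj (t : H) (E i) ≤ E (σ t i) := fun t i => by
    rw [map_le_iff_le_comap]
    exact hEle i _ fun j hj X hX =>
      map_le_iff_le_comap.1 (hE ((hNσ t i j).2 hj) (hσ t j hX))
  -- the stars
  have hblock : ∀ i, IsPermBlock p V (E i) ∧ fx V (E i) ⊔ devSpan V (E i) = ⊤ := by
    intro i
    have : Finite 𝕄 := Subtype.finite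
    let m := Nat.card (K i)
    obtain ⟨e, he⟩ : ∃ k : ℕ, m = 2 ^ k := by
      let S : Subgroup ↥(T : Subgroup H) :=
        { carrier := {t | ∀ j, N i (σ t j) ↔ N i j}
          one_mem' := fun j => by
            rw [show σ 1 j = j from Subtype.ext (cnj_one _)]
          mul_mem' := fun {s t} hs ht j => by
            rw [show σ (s * t) j = σ s (σ t j) from Subtype.ext (cnj_cnj _ _ _).symm, hs, ht]
          inv_mem' := fun {t} ht j => by
            rw [← ht (σ t⁻¹ j), show σ t (σ t⁻¹ j) = j from Subtype.ext (by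
              show cnj (t : H) (cnj ((t⁻¹ : ↥(T : Subgroup H)) : H) (j : Subgroup H)) = (j : Subgroup H)
              rw [cnj_cnj, coe_inv, mul_inv_cancel, cnj_one])] }
      letI : MulAction ↥S ↥(K i) :=
        { smul := fun t j => ⟨σ t.1 j.1, (t.2 j.1).2 j.2⟩
          one_smul := fun j => Subtype.ext (Subtype.ext (cnj_one _))
          mul_smul := fun s t j => Subtype.ext (Subtype.ext (cnj_cnj _ _ _).symm) }
      have htr : MulAction.IsPretransitive ↥S ↥(K i) := ⟨fun j k => by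
        obtain ⟨t, ht, he⟩ := hc.partner.orbit hc.tame hc.hyp j.1.2.1 j.1.2.2 k.1.2.1 k.1.2.2
        have hjk : σ ⟨t, ht⟩ j.1 = k.1 := Subtype.ext he.symm
        refine ⟨⟨⟨t, ht⟩, fun l => ?_⟩, Subtype.ext hjk⟩
        constructor
        · intro hl
          refine htrans j.2 ((hNσ ⟨t, ht⟩ j.1 l).1 ?_)
          rw [hjk]
          exact htrans (hsymm k.2) hl
        · intro hl
          refine htrans k.2 ?_
          rw [← hjk]
          exact (hNσ ⟨t, ht⟩ j.1 l).2 (htrans (hsymm j.2) hl)⟩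
      have h1 : Nat.card (K i) ∣ Nat.card S := by
        rw [← MulAction.index_stabilizer_of_transitive (G := ↥S) (⟨i, hrefl i⟩ : K i)]
        exact Subgroup.index_dvd_card _
      obtain ⟨k, hk⟩ := IsPGroup.iff_card.1 (T.2.to_subgroup S)
      rw [hk, h2.eq_two hc i.2.1] at h1
      obtain ⟨j, -, hj⟩ := (Nat.dvd_prime_pow Nat.prime_two).1 h1
      exact ⟨j, hj⟩
    let κ := Fin m ⊕ Fin m
    let f : κ ≃ (↥(K i) ⊕ ↥(K i)) :=
      Equiv.sumCongr (Finite.equivFin _).symm (Finite.equivFin _).symm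
    have hcard : Fintype.card κ = 2 ^ (e + 1) := by
      rw [Fintype.card_sum, Fintype.card_fin, he, pow_succ, mul_two]
    have hstar : Star p V (Xf i ∘ f) := by
      refine ⟨fun k => ?_, fun k l hkl => ?_, ?_, ?_⟩
      · show Mem p V (Xf i (f k))
        rcases f k with ⟨j, hj⟩ | ⟨j, hj⟩
        · exact (hD j).part.slot.mem
        · exact ((hD j).slot hc j.2 (Or.inr rfl)).mem
      · have hkey : ∀ a b : ↥(K i) ⊕ ↥(K i), a ≠ b → ¬ Comm (Xf i a) (Xf i b) := by
          have hdiff : ∀ (a b : ↥(K i)), a ≠ b → ∀ X Y, In2 X (B a) (C a) → In2 Y (B b) (C b) →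
              ¬ Comm X Y := fun a b hab X Y hX hY hcm => by
            have hab' : (a : 𝕄) ≠ b := fun h => hab (Subtype.ext h)
            have := ((hD a).comm_iff hc a.1.2 b.1.2 (hne _ _ hab'.symm) (hD b) hX hY).1 hcm
            rcases htrans (hsymm a.2) b.2 with h | h
            · exact hab' h
            · exact h this
          have hsame : ∀ a : ↥(K i), ¬ Comm (B a) (C a) := fun a =>
            (hD a).not_comm hc h2 hTM a.1.2
          rintro (a | a) (b | b) hab
          · exact hdiff a b (fun h => hab (h ▸ rfl)) _ _ (Or.inl rfl) (Or.inl rfl)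
          · by_cases h : a = b
            · subst h; exact hsame a
            · exact hdiff a b h _ _ (Or.inl rfl) (Or.inr rfl)
          · by_cases h : a = b
            · subst h; exact fun hcm => hsame a hcm.symm
            · exact hdiff a b h _ _ (Or.inr rfl) (Or.inl rfl)
          · exact hdiff a b (fun h => hab (h ▸ rfl)) _ _ (Or.inr rfl) (Or.inr rfl)
        exact hkey _ _ (f.injective.ne hkl)
      · rw [hcard, Nat.cast_pow, show ((2 : ℕ) : ZMod 2) = 0 from rfl, zero_pow (Nat.succ_ne_zero e)]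
      · rw [hcard]
        exact Nat.one_lt_two_pow (Nat.succ_ne_zero e)
    have h3 := hstar.isPermBlock hc h2 (n := e + 1) (by omega) hcard
    rwa [show (⨆ k, (Xf i ∘ f) k) = E i from f.iSup_comp (g := Xf i)] at h3
  let s : Setoid 𝕄 := ⟨N, ⟨hrefl, hsymm, htrans⟩⟩
  have : Finite 𝕄 := Subtype.finite
  refine ⟨Quotient s, inferInstance, ⟨Quotient.mk s ⟨A₀, hA₀⟩⟩, fun q => E q.out,
    ⟨fun q q' hqq => ?_, fun q => (hblock _).2, fun q q' => ?_,
      fun t ht q => ⟨Quotient.mk s (σ ⟨t, ht⟩ q.out), (hEσ ⟨t, ht⟩ q.out).trans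
        (hEeq (hsymm (show N (Quotient.mk s (σ ⟨t, ht⟩ q.out)).out (σ ⟨t, ht⟩ q.out) from
          Quotient.exact (s := s) (Quotient.out_eq (s := s) _)))).le⟩, ?_⟩, fun q => (hblock _).1,
    fun q => hEle _ _ fun j _ X hX =>
      le_sSup (show X ∈ {D | Mem p V D} from ((hD j).slot hc j.2 hX).mem),
    fun D hDT => ?_⟩
  · refine hEle _ _ fun j hj X hX x hx v => ?_
    have hnot : ∀ k, N q'.out k → ¬ N j k := fun k hk hjk =>
      hqq (by
        rw [← Quotient.out_eq q, ← Quotient.out_eq q']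
        exact Quotient.sound (htrans hj (htrans hjk (hsymm hk))))
    refine le_stab.1 (hEle _ _ fun k hk Y hY => le_stab.2 ?_)
    have hjk : j ≠ k := fun h => hnot k hk (h ▸ hrefl _)
    have hcm : Comm X Y := ((hD j).comm_iff hc j.2 k.2 (hne _ _ (Ne.symm hjk)) (hD k) hX hY).2
      (not_not.1 fun h => hnot k hk (Or.inr h))
    refine hc.tame.dev_mem_fx ((hD j).slot hc j.2 hX).mem ((hD k).slot hc k.2 hY).mem ?_ hcm hx v
    intro he
    exact (hD j).not_comm_left hc hTM j.2 hX
      (he ▸ ((hD k).comm_other hc k.2 j.2 (hne _ _ hjk) hY).symm)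
  · obtain ⟨t, ht, he⟩ := hc.partner.orbit hc.tame hc.hyp q.out.2.1 q.out.2.2 q'.out.2.1 q'.out.2.2
    have hq : σ ⟨t, ht⟩ q.out = q'.out := Subtype.ext he.symm
    refine ⟨t, ht, le_antisymm (hq ▸ hEσ ⟨t, ht⟩ q.out) ?_⟩
    have h1 := hEσ ⟨t⁻¹, inv_mem ht⟩ q'.out
    rw [show σ ⟨t⁻¹, inv_mem ht⟩ q'.out = q.out from Subtype.ext (by
      show cnj t⁻¹ (q'.out : Subgroup H) = q.out
      rw [he, cnj_cnj, inv_mul_cancel, cnj_one])] at h1
    have h2' := cnj_mono t h1
    rwa [cnj_cnj, mul_inv_cancel, cnj_one] at h2'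
  · by_contra hne'
    set q := Quotient.mk s (⟨A₀, hA₀⟩ : 𝕄)
    refine (hD q.out).part.not_le ?_
    exact ((hE (hrefl q.out) (Or.inl rfl)).trans (le_iSup (fun q : Quotient s => E q.out) q)).trans
      (le_sup_left.trans (hM.2.2 T hTM _ hne' le_sup_right))
  · refine ((hD ⟨D, hDT⟩).left_le hc h2 hM hTM hDT).trans ?_
    refine le_trans ?_ (le_iSup (fun q : Quotient s => E q.out) (Quotient.mk s ⟨D, hDT⟩))
    have hN : N (Quotient.mk s (⟨D, hDT⟩ : 𝕄)).out ⟨D, hDT⟩ :=
      Quotient.exact (s := s) (Quotient.out_eq (s := s) _)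
    exact sup_le (hE hN (Or.inl rfl)) (hE hN (Or.inr rfl))

end Cfsg.Agent.Lib.FFComp
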