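import Cfsg.Agent.Lib.FFComp.Pair

/-!
# A slot is the orbit of a pair

If a member is opposite to all translates of `B` under `A` then it commutes with `A`. Hence a slot
consists of `A` and the translates of `B`.
-/

set_option autoImplicit false
set_option linter.unusedSectionVars false

namespace Cfsg.Agent.Lib.FFComp

open Subgroup SL2Recog FFMin
open scoped Pointwise

universe u

variable {H V : Type u} [Group H] [AddCommGroup V] [DistribMulAction H V] {p : ℕ}
  [Finite H] [Finite V] [FaithfulSMul H V] [Fact p.Prime]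

/-- The fixed points common to three subgroups. -/
abbrev common (V : Type*) [AddCommGroup V] [DistribMulAction H V] (A B C : Subgroup H) :
    AddSubgroup V :=
  fx V A ⊓ fx V B ⊓ fx V C

/-- All commutator spaces of elements of `B` agree modulo the common fixed points. -/
def Flat (V : Type*) [AddCommGroup V] [DistribMulAction H V] (A B C : Subgroup H) : Prop :=
  ∀ b ∈ B, b ≠ 1 → ∀ b' ∈ B, b' ≠ 1 → (devHom V b').range ≤ (devHom V b).range ⊔ common V A B C

variable {A B C : Subgroup H}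

theorem OppPair.cnj (h : OppPair p V A B) (g : H) :
    OppPair p V (cnj g A) (SL2Recog.cnj g B) := by
  have aux : ∀ X Y : Subgroup H, Opp V X Y → Opp V (SL2Recog.cnj g X) (SL2Recog.cnj g Y) := by
    rintro X Y hXY _ ⟨x, hx, rfl⟩ hx1 v hv
    have h1 : dev x (g⁻¹ • v) ∈ fx V Y := by
      rw [← smul_mem_fx_cnj g, smul_dev, smul_inv_smul]
      exact hv
    have h2 := (smul_mem_fx_cnj g).2
      (hXY x hx (fun h0 => hx1 (by rw [h0, map_one])) _ h1)
    rwa [smul_inv_smul] at h2
  exact ⟨h.left.cnj g, h.right.cnj g, aux _ _ h.opp, aux _ _ h.opp'⟩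

theorem OppPair.fx_norm {g : H} (hg : SL2Recog.cnj g B = B) {v : V} (hv : v ∈ fx V B) :
    g • v ∈ fx V B := hg ▸ (smul_mem_fx_cnj g).2 hv

theorem card_range_sup (hc : Std p H V) (hp : OppPair p V A B) {a : H} (ha : a ∈ A) (ha1 : a ≠ 1)
    {P : AddSubgroup V} (hP : P ≤ fx V B) :
    Nat.card ↥((devHom V a).range ⊔ P) = Nat.card A * Nat.card P := by
  have h1 := card_sup_mul_inf (devHom V a).range P
  rw [eq_bot_iff.2 ((inf_le_inf_left _ hP).trans (hp.inf_eq_bot ha ha1).le), AddSubgroup.card_bot,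
    mul_one, hc.tame.card_range hp.left ha ha1] at h1
  exact h1

theorem common_cnj {a : H} (ha : a ∈ A) : common V A B (SL2Recog.cnj a C) ≤ common V A B C := by
  intro v hv
  refine ⟨hv.1, ?_⟩
  have h1 := hv.1.1 a⁻¹ (inv_mem ha)
  rw [inv_smul_eq_iff] at h1
  have h2 := hv.2
  rw [h1] at h2
  exact (smul_mem_fx_cnj a).1 h2

/-- The curved case: the complement cut out by the torus lies in the fixed points of `C`. -/
theorem le_fx_of_not_flat (hc : Std p H V) (hp : OppPair p V A B) (hC : OppPair p V B C) {h : H}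
    (ht : Tor p V A B h) (hnf : ¬ Flat V A B C) : (fx V B).map (devHom V h) ≤ fx V C := by
  set U := fx V A ⊓ fx V B with hU
  set U0 := common V A B C with hU0
  set η := (fx V B).map (devHom V h) with hη
  set K := fx V B ⊓ fx V C with hK
  set Q := η ⊔ U0 with hQ
  have hfixU : ∀ l ∈ A ⊔ B, ∀ u ∈ U, l • u = u := fun l hl u hu => NatPair.smul_fix hl hu
  have hη_le : η ≤ fx V B := by
    rintro _ ⟨y, hy, rfl⟩
    exact sub_mem (OppPair.fx_norm ht.norm_right hy) hy
  have hηU : ∀ y ∈ η, y ∈ U → y = 0 := by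
    rintro _ ⟨y, -, rfl⟩ hy'
    exact dev_eq_zero_iff.2 (hfixU h ht.mem y (ht.free y hy'))
  have hcardη : Nat.card η * Nat.card U = Nat.card (fx V B) := by
    rw [card_map_mul_add (fx V B) (devHom V h), hη]
    congr 1
    refine Nat.card_congr (Equiv.setCongr ?_)
    ext v
    exact ⟨fun hv => ⟨hv.2, dev_eq_zero_iff.2 (hfixU h ht.mem v hv)⟩,
      fun hv => ht.free v ((show dev h v = 0 from hv.2).symm ▸ zero_mem _)⟩
  have hηtop : η ⊔ U = fx V B := by
    refine AddSubgroup.eq_of_le_of_card_ge (sup_le hη_le inf_le_right) ?_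
    have h1 := card_sup_mul_inf η U
    rw [(AddSubgroup.eq_bot_iff_forall (η ⊓ U)).2 (fun y hy => hηU y hy.1 hy.2),
      AddSubgroup.card_bot, mul_one, hcardη] at h1
    exact h1.ge
  have hqη : Nat.card η = Nat.card B := by
    refine Nat.eq_of_mul_eq_mul_right (Nat.card_pos (α := U)) ?_
    rw [hcardη, ← hc.card_eq hp.left hp.right, hp.card_inf hc]
  have hcardQ : Nat.card Q = Nat.card B * Nat.card U0 := by
    have h1 := card_sup_mul_inf η U0
    rw [(AddSubgroup.eq_bot_iff_forall (η ⊓ U0)).2 (fun y hy => hηU y hy.1 hy.2.1),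
      AddSubgroup.card_bot, mul_one, hqη] at h1
    exact h1
  have hcardK : Nat.card K = Nat.card U := by
    refine Nat.eq_of_mul_eq_mul_left (Nat.card_pos (α := B)) ?_
    have h1 := hC.symm.card_inf hc
    rw [inf_comm, ← hK, ← hc.card_eq hC.left hC.right] at h1
    rw [h1, ← hc.card_eq hp.left hp.right, hp.card_inf hc]
  have hKU : U ⊓ K = U0 := by
    ext v
    exact ⟨fun hv => ⟨hv.1, hv.2.2⟩, fun hv => ⟨hv.1, hv.1.2, hv.2⟩⟩
  -- no commutator vector is congruent to a new vector of `K`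
  have key : ∀ k ∈ K, k ∉ U0 → ∀ b ∈ B, b ≠ 1 → ∀ r ∈ (devHom V b).range, r ≠ 0 →
      k - r ∉ Q := by
    rintro k hk hkU b hb hb1 _ ⟨v, rfl⟩ hr0 hmem
    obtain ⟨η0, hη0, u0, hu0, he⟩ := AddSubgroup.mem_sup.1 hmem
    have hrB : dev b v ∈ fx V B := hp.right.quad hc.tame.exp b hb v
    obtain ⟨ηr, hηr, ur, hur, her⟩ := AddSubgroup.mem_sup.1 (hηtop.ge hrB)
    have hrA : ηr ∉ fx V A := fun hA' => hr0 (by
      have : dev b v ∈ fx V A := her ▸ add_mem hA' hur.1
      exact dev_eq_zero hb (hp.opp' b hb hb1 v this))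
    set ηk := ηr + η0 with hηk
    have hk1 : k - u0 = ηk + ur := by
      have e : k = dev b v + (η0 + u0) := by rw [he]; exact (add_sub_cancel _ _).symm
      rw [hηk, e, ← her]
      abel
    have hkA : ηk ∉ fx V A := fun hA' => hkU (by
      have h1 : k - u0 ∈ U := by
        rw [hk1]
        exact add_mem ⟨hA', hη_le (add_mem hηr hη0)⟩ hur
      have h2 : k ∈ U := by
        have h3 := add_mem h1 hu0.1
        rwa [sub_add_cancel] at h3
      exact ⟨h2, hk.2⟩)
    obtain ⟨g, hg, hgh, hgB, hgU⟩ :=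
      ht.trans ηr (hη_le hηr) hrA ηk (hη_le (add_mem hηr hη0)) hkA
    have hgη : g • ηr ∈ η := by
      obtain ⟨y, hy, hye⟩ := hηr
      refine ⟨g • y, OppPair.fx_norm hgB hy, ?_⟩
      rw [← hye, devHom_apply, devHom_apply, smul_dev, hgh, mul_inv_cancel_right]
    have heq : g • ηr = ηk :=
      sub_eq_zero.1 (hηU _ (sub_mem hgη (add_mem hηr hη0)) hgU)
    have hgr : dev (g * b * g⁻¹) (g • v) ∈ fx V C := by
      rw [← smul_dev, ← her, smul_add, heq, hfixU g hg ur hur, ← hk1]
      exact sub_mem hk.2 hu0.2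
    have hgb : g * b * g⁻¹ ∈ B := hgB ▸ mem_map_of_mem _ hb
    have hgb1 : g * b * g⁻¹ ≠ 1 := fun h1 => hb1 (conj_eq_one_iff.1 h1)
    have h3 := dev_eq_zero hgb (hC.opp _ hgb hgb1 _ hgr)
    rw [← smul_dev, smul_eq_zero_iff_eq] at h3
    exact hr0 h3
  obtain ⟨b0, hb0, hb01, hb0Q⟩ : ∃ b ∈ B, b ≠ 1 ∧ ¬ (devHom V b).range ≤ Q := by
    by_contra! hall
    refine hnf fun b hb hb1 b' hb' hb'1 => ?_
    have heq : (devHom V b).range ⊔ U0 = Q := by
      refine AddSubgroup.eq_of_le_of_card_ge (sup_le (hall b hb hb1) le_sup_right) ?_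
      rw [hcardQ, card_range_sup hc hp.symm hb hb1 (inf_le_left.trans inf_le_left)]
    exact heq.symm ▸ hall b' hb' hb'1
  obtain ⟨r0, hr0, hr0Q⟩ := SetLike.not_le_iff_exists.1 hb0Q
  have hr00 : r0 ≠ 0 := fun h0 => hr0Q (h0 ▸ zero_mem _)
  -- some new vector of `K` lies in `Q`
  obtain ⟨k1, hk1, hk1U⟩ : ∃ k ∈ K ⊓ Q, k ∉ U0 := by
    by_contra! hall
    have hKQ : K ⊓ Q = U0 := le_antisymm hall (le_inf (le_inf (fun v hv => hv.1.2) fun v hv => hv.2)
      le_sup_right)
    have htop : K ⊔ Q = fx V B := by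
      refine AddSubgroup.eq_of_le_of_card_ge
        (sup_le inf_le_left (sup_le hη_le fun v hv => hv.1.2)) ?_
      refine Nat.le_of_mul_le_mul_right ?_ (Nat.card_pos (α := U0))
      have h1 := card_sup_mul_inf K Q
      rw [hKQ, hcardQ, hcardK] at h1
      rw [h1, ← hcardη, hqη]
      exact le_of_eq (by ring)
    have hr0B : r0 ∈ fx V B := by
      obtain ⟨v, rfl⟩ := hr0
      exact hp.right.quad hc.tame.exp b0 hb0 v
    obtain ⟨k, hk, x, hx, he⟩ := AddSubgroup.mem_sup.1 (htop.ge hr0B)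
    by_cases hkU : k ∈ U0
    · exact hr0Q (he ▸ add_mem (AddSubgroup.mem_sup_right hkU) hx)
    · refine key k hk hkU b0 hb0 hb01 r0 hr0 hr00 ?_
      rw [← he, sub_add_cancel_left]
      exact neg_mem hx
  have hfree : (devHom V b0).range ⊓ Q = ⊥ := by
    refine (AddSubgroup.eq_bot_iff_forall _).2 fun r hr => ?_
    by_contra hne
    exact key k1 hk1.1 hk1U b0 hb0 hb01 r hr.1 hne (sub_mem hk1.2 hr.2)
  have hrangeB : (devHom V b0).range ≤ fx V B := by
    rintro _ ⟨v, rfl⟩
    exact hp.right.quad hc.tame.exp b0 hb0 v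
  have hsupcard : Nat.card ↥((devHom V b0).range ⊔ Q) = Nat.card B * (Nat.card B * Nat.card U0) := by
    have h1 := card_sup_mul_inf (devHom V b0).range Q
    rw [hfree, AddSubgroup.card_bot, mul_one, hc.tame.card_range hp.right hb0 hb01, hcardQ] at h1
    exact h1
  have hge : Nat.card B * Nat.card U0 ≤ Nat.card U := by
    have h1 := AddSubgroup.card_le_of_le
      (sup_le hrangeB (sup_le hη_le fun v hv => hv.1.2) : (devHom V b0).range ⊔ Q ≤ fx V B)
    rw [hsupcard, ← hcardη, hqη] at h1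
    exact Nat.le_of_mul_le_mul_left h1 Nat.card_pos
  have hle : Nat.card U ≤ Nat.card B * Nat.card U0 := by
    have h1 := AddSubgroup.card_le_of_le (sup_le inf_le_right inf_le_left : U ⊔ K ≤ fx V B)
    have h2 := card_sup_mul_inf U K
    rw [hKU, hcardK] at h2
    rw [← hcardη, hqη] at h1
    refine Nat.le_of_mul_le_mul_right ?_ (Nat.card_pos (α := U))
    rw [← h2]
    refine (Nat.mul_le_mul_right _ h1).trans_eq ?_
    ring
  have htop : (devHom V b0).range ⊔ Q = fx V B := by
    refine AddSubgroup.eq_of_le_of_card_ge (sup_le hrangeB (sup_le hη_le fun v hv => hv.1.2)) ?_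
    rw [hsupcard, ← hcardη, hqη]
    exact Nat.mul_le_mul_left _ hle
  have hKQ : K ≤ Q := by
    intro k hk
    obtain ⟨r, hr, x, hx, he⟩ := AddSubgroup.mem_sup.1 (htop.ge hk.1)
    by_cases hr0' : r = 0
    · rw [← he, hr0', zero_add]
      exact hx
    exfalso
    by_cases hkU : k ∈ U0
    · have hrQ : r ∈ Q := by
        rw [eq_sub_of_add_eq he]
        exact sub_mem (show k ∈ Q from AddSubgroup.mem_sup_right hkU) hx
      exact hr0' ((AddSubgroup.eq_bot_iff_forall _).1 hfree r ⟨hr, hrQ⟩)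
    · refine key k hk hkU b0 hb0 hb01 r hr hr0' ?_
      rw [← he, add_sub_cancel_left]
      exact hx
  have heq : K = Q := AddSubgroup.eq_of_le_of_card_ge hKQ (by rw [hcardK, hcardQ]; exact hge)
  exact (le_sup_left.trans heq.ge).trans inf_le_right

/-- A member opposite to all translates of `B` commutes with `A`. -/
theorem comm_of_opp (hc : Std p H V) {F : Type} [Field F] [Fintype F] (n : NatPair F V A B)
    (hp : OppPair p V A B) (hq : Fintype.card F = Nat.card A)
    (hopp : ∀ a ∈ A, OppPair p V (cnj a B) C) : Comm A C := by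
  have hC : Mem p V C := (hopp 1 (one_mem _)).right
  have hBC : ∀ a ∈ A, OppPair p V B (cnj a⁻¹ C) := fun a ha => by
    have h1 := (hopp a ha).cnj a⁻¹
    rwa [cnj_cnj, inv_mul_cancel, cnj_one] at h1
  have hBC1 : OppPair p V B C := by simpa [cnj_one] using hopp 1 (one_mem _)
  refine hc.tame.comm_of_le hp.left hC ?_
  by_cases hflat : Flat V A B C
  · obtain ⟨fr⟩ := n.exists_frame hc hp hq
    obtain ⟨l, hl, hlB⟩ := fr.exists_swap hc hp
    obtain ⟨b0, hb0, hb01⟩ := exists_ne_one hp.right.ne_bot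
    set a1 := l * b0 * l⁻¹ with ha1def
    have ha1 : a1 ∈ A := hlB ▸ mem_map_of_mem _ hb0
    have ha11 : a1 ≠ 1 := fun h1 => hb01 (conj_eq_one_iff.1 h1)
    set U0 := common V A B C with hU0
    set P := (devHom V a1).range ⊔ ((devHom V b0).range ⊔ U0) with hP
    have hA : ∀ a ∈ A, (devHom V a).range ≤ (devHom V a1).range ⊔ U0 := by
      rintro a ha _ ⟨v, rfl⟩
      rcases eq_or_ne a 1 with rfl | hne
      · rw [devHom_apply, dev_one]
        exact zero_mem _
      obtain ⟨b, hb, hbe⟩ := hlB.ge ha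
      change l * b * l⁻¹ = a at hbe
      have hb1 : b ≠ 1 := fun h1 => hne (by rw [← hbe, h1, mul_one, mul_inv_cancel])
      obtain ⟨_, ⟨w, rfl⟩, u, hu, he⟩ :=
        AddSubgroup.mem_sup.1 (hflat b0 hb0 hb01 b hb hb1 ⟨l⁻¹ • v, rfl⟩)
      refine AddSubgroup.mem_sup.2 ⟨_, ⟨l • w, rfl⟩, u, hu, ?_⟩
      have h1 := congrArg (l • ·) he
      simp only [smul_add, devHom_apply, smul_dev, smul_inv_smul, hbe,
        NatPair.smul_fix hl hu.1] at h1
      exact h1
    have hrB : (devHom V b0).range ≤ fx V B := by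
      rintro _ ⟨v, rfl⟩
      exact hp.right.quad hc.tame.exp b0 hb0 v
    have hU0B : (devHom V b0).range ⊔ U0 ≤ fx V B := sup_le hrB fun v hv => hv.1.2
    have hU0A : (devHom V a1).range ⊔ U0 ≤ fx V A := by
      refine sup_le ?_ fun v hv => hv.1.1
      rintro _ ⟨v, rfl⟩
      exact hp.left.quad hc.tame.exp a1 ha1 v
    have hsub : P ⊓ fx V C ≤ (devHom V a1).range ⊔ U0 := by
      rintro x ⟨hxP, hxC⟩
      have hxA : x ∈ fx V A := by
        by_contra hxA
        obtain ⟨a, ha, hxa⟩ := exists_translate hc n hp hq hxA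
        set y := a⁻¹ • x with hy
        have hyB : y ∈ fx V B := (smul_mem_fx_cnj a).1 (by rwa [hy, smul_inv_smul])
        have hyP : y ∈ P := by
          rw [hy, smul_eq]
          exact add_mem hxP ((sup_le le_sup_left (le_sup_right.trans le_sup_right) :
            (devHom V a1).range ⊔ U0 ≤ P) (hA a⁻¹ (inv_mem ha) ⟨x, rfl⟩))
        obtain ⟨_, ⟨v, rfl⟩, s, hs, he⟩ := AddSubgroup.mem_sup.1 hyP
        have h1 : dev a1 v ∈ fx V B := by
          have := sub_mem hyB (hU0B hs)
          rwa [← he, add_sub_cancel_right] at this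
        rw [devHom_apply, dev_eq_zero ha1 (hp.opp a1 ha1 ha11 v h1), zero_add] at he
        obtain ⟨_, ⟨w, rfl⟩, u, hu, hwu⟩ := AddSubgroup.mem_sup.1 hs
        have huC : u ∈ fx V (cnj a⁻¹ C) := by
          rw [← hu.1.1 a⁻¹ (inv_mem ha)]
          exact (smul_mem_fx_cnj _).2 hu.2
        have hyC : y ∈ fx V (cnj a⁻¹ C) := (smul_mem_fx_cnj _).2 hxC
        have h2 : dev b0 w ∈ fx V (cnj a⁻¹ C) := by
          have := sub_mem hyC huC
          rwa [← he, ← hwu, add_sub_cancel_right] at this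
        rw [devHom_apply, dev_eq_zero hb0 ((hBC a ha).opp b0 hb0 hb01 w h2), zero_add] at hwu
        refine hxA ?_
        rw [show x = a • y by rw [hy, smul_inv_smul], ← he, ← hwu, hu.1.1 a ha]
        exact hu.1.1
      obtain ⟨r, hr, s, hs, he⟩ := AddSubgroup.mem_sup.1 hxP
      obtain ⟨_, ⟨w, rfl⟩, u, hu, hwu⟩ := AddSubgroup.mem_sup.1 hs
      have h1 : dev b0 w ∈ fx V A := by
        have h2 := sub_mem (sub_mem hxA (hU0A (AddSubgroup.mem_sup_left hr))) hu.1.1
        rwa [← he, add_sub_cancel_left, ← hwu, add_sub_cancel_right] at h2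
      rw [devHom_apply, dev_eq_zero hb0 (hp.opp' b0 hb0 hb01 w h1), zero_add] at hwu
      rw [← he, ← hwu]
      exact add_mem (AddSubgroup.mem_sup_left hr) (AddSubgroup.mem_sup_right hu)
    have hcardP : Nat.card P = Nat.card A * (Nat.card A * Nat.card U0) := by
      rw [hP, card_range_sup hc hp ha1 ha11 hU0B,
        card_range_sup hc hp.symm hb0 hb01 (inf_le_left.trans inf_le_left : U0 ≤ fx V A), hc.card_eq hp.right hp.left]
    have heq : P ⊓ fx V C = (devHom V a1).range ⊔ U0 := by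
      refine AddSubgroup.eq_of_le_of_card_ge hsub ?_
      rw [card_range_sup hc hp ha1 ha11 (inf_le_left.trans inf_le_right : U0 ≤ fx V B)]
      have h1 := card_mul_le (le_top : P ≤ ⊤) (le_top : fx V C ≤ ⊤)
      rw [AddSubgroup.card_top, hcardP] at h1
      have h2 := hC.meas_eq
      rw [meas, hc.card_eq hC hp.left] at h2
      refine Nat.le_of_mul_le_mul_left ?_
        (Nat.mul_pos (Nat.card_pos (α := A)) (Nat.card_pos (α := fx V C)))
      calc Nat.card A * Nat.card (fx V C) * (Nat.card A * Nat.card U0)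
          = Nat.card A * (Nat.card A * Nat.card U0) * Nat.card (fx V C) := by ring
        _ ≤ Nat.card V * Nat.card ↥(P ⊓ fx V C) := h1
        _ = _ := by rw [h2]
    intro a ha v
    exact (heq.ge (hA a ha ⟨v, rfl⟩)).2
  · have h2 : 2 < Nat.card A := by
      by_contra hle
      refine hflat fun b hb hb1 b' hb' hb'1 => ?_
      have hcard : Nat.card B ≤ 2 := by rw [← hc.card_eq hp.left hp.right]; omega
      have : b' = b := by
        by_contra hne
        have h3 : ({1, b, b'} : Set H) ⊆ (B : Set H) := by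
          rintro x (rfl | rfl | rfl)
          exacts [one_mem B, hb, hb']
        have h4 := Set.ncard_le_ncard h3 (Set.toFinite _)
        rw [Set.ncard_eq_three.2 ⟨1, b, b', hb1.symm, hb'1.symm, Ne.symm hne, rfl⟩,
          ← Nat.card_coe_set_eq, SetLike.coe_sort_coe] at h4
        omega
      rw [this]
      exact le_sup_left
    obtain ⟨h, ht⟩ := exists_tor hc n hp hq h2
    intro a ha v
    obtain ⟨x, hx, y, hy, rfl⟩ := AddSubgroup.mem_sup.1 (hp.sup_eq_top hc ▸ AddSubgroup.mem_top v)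
    have hnf : ¬ Flat V A B (cnj a⁻¹ C) := fun hf => hflat fun b hb hb1 b' hb' hb'1 =>
      (hf b hb hb1 b' hb' hb'1).trans (sup_le_sup_left (common_cnj (inv_mem ha)) _)
    have hη : ∀ w ∈ fx V B, dev h w ∈ fx V (cnj a⁻¹ C) ∧ dev h w ∈ fx V C := fun w hw =>
      ⟨le_fx_of_not_flat hc hp (hBC a ha) ht hnf ⟨w, hw, rfl⟩,
        le_fx_of_not_flat hc hp hBC1 ht hflat ⟨w, hw, rfl⟩⟩
    -- modulo the fixed points of `A`, the vectors `dev h w` cover everything
    have hcov : fx V A ⊔ (fx V B).map (devHom V h) = ⊤ := by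
      refine top_unique ((hp.sup_eq_top hc).ge.trans (sup_le le_sup_left ?_))
      have hle : (fx V B).map (devHom V h) ⊔ (fx V A ⊓ fx V B) ≤
          fx V A ⊔ (fx V B).map (devHom V h) :=
        sup_le le_sup_right (inf_le_left.trans le_sup_left)
      refine le_trans (le_of_eq ?_) hle
      refine (AddSubgroup.eq_of_le_of_card_ge (sup_le ?_ inf_le_right) ?_).symm
      · rintro _ ⟨w, hw, rfl⟩
        exact sub_mem (OppPair.fx_norm ht.norm_right hw) hw
      · have h1 := card_sup_mul_inf ((fx V B).map (devHom V h)) (fx V A ⊓ fx V B)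
        rw [(AddSubgroup.eq_bot_iff_forall ((fx V B).map (devHom V h) ⊓ (fx V A ⊓ fx V B))).2 (fun w hw => by
          obtain ⟨⟨w', -, rfl⟩, hw2⟩ := hw
          exact dev_eq_zero_iff.2 (NatPair.smul_fix ht.mem (ht.free w' hw2))),
          AddSubgroup.card_bot, mul_one] at h1
        rw [h1, card_map_mul_add (fx V B) (devHom V h)]
        refine Nat.mul_le_mul_left _ (AddSubgroup.card_le_of_le fun w hw => ?_)
        exact ht.free w ((show dev h w = 0 from hw.2).symm ▸ zero_mem _)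
    obtain ⟨x', hx', _, ⟨w, hw, rfl⟩, he⟩ :=
      AddSubgroup.mem_sup.1 (hcov ▸ AddSubgroup.mem_top y)
    rw [dev_add, dev_eq_zero ha hx, zero_add, ← he, dev_add, dev_eq_zero ha hx', zero_add,
      devHom_apply]
    refine sub_mem ?_ (hη w hw).2
    have h1 := (smul_mem_fx_cnj a).2 (hη w hw).1
    rwa [cnj_cnj, mul_inv_cancel, cnj_one] at h1

variable {O : Set (Subgroup H)} {T : Sylow p H}

/-- A slot consists of `A` and the translates of a partner `B`. -/
theorem InSlot.eq_or_translate (hc : Std p H V) (hb : Base p V O T A) {M : Subgroup H}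
    (hM : UMax p M) (hTM : (T : Subgroup H) ≤ M) (hB : InSlot p V O B) (hBM : ¬ B ≤ M)
    {F : Type} [Field F] [Fintype F] (n : NatPair F V A B) (hq : Fintype.card F = Nat.card A)
    (hC : InSlot p V O C) : C = A ∨ ∃ a ∈ A, C = SL2Recog.cnj a B := by
  have hA := hb.inSlot hc
  have hEM : sSup O ⊔ A ≤ M := hb.memSup_eq.le.trans ((sSup_le fun _ hD => hD.2).trans hTM)
  have hp := hA.oppPair hc hb hB hM hEM hBM
  obtain ⟨-, M', -, hM', -, hBM'⟩ := hB.exists_umax hc hb
  have hcentA : ∀ a ∈ A, a ∈ cent O := fun a ha => hA.le_cent ha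
  have hfixO : ∀ {x : H}, x ∈ cent O → ∀ {N : Subgroup H}, sSup O ≤ N →
      sSup O ≤ SL2Recog.cnj x N := fun hx N hN => sSup_le fun D hD =>
    (cnj_eq_of_mem_cent hx hD).symm.le.trans (cnj_mono _ ((le_sSup hD).trans hN))
  have hmax : ∀ a ∈ A, sSup O ⊔ SL2Recog.cnj a B ≤ SL2Recog.cnj a M' := fun a ha =>
    sup_le (hfixO (hcentA a ha) (le_sup_left.trans hBM'))
      (cnj_mono a (le_sup_right.trans hBM'))
  have hfin : ∀ C : Subgroup H, InSlot p V O C → (∀ a ∈ A, ¬ C ≤ SL2Recog.cnj a M') → C = A :=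
    fun C hC hall => hC.eq_of_comm hc hb (comm_of_opp hc n hp hq fun a ha =>
      (hB.conj (hcentA a ha)).oppPair hc hb hC (hM'.cnj a) (hmax a ha) (hall a ha))
  by_cases hall : ∀ a ∈ A, ¬ C ≤ SL2Recog.cnj a M'
  · exact Or.inl (hfin C hC hall)
  push Not at hall
  obtain ⟨a, ha, hCa⟩ := hall
  obtain ⟨fr⟩ := n.exists_frame hc hp hq
  obtain ⟨l, hl, hlB⟩ := fr.exists_swap hc hp
  have hlc : l ∈ cent O := (sup_le hA.le_cent hB.le_cent) hl
  have hkc : l * a⁻¹ ∈ cent O := mul_mem hlc (inv_mem (hcentA a ha))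
  have hMeq : SL2Recog.cnj l M' = M := by
    refine hA.umax_unique hc hb (hM'.cnj l) hM (sup_le (hfixO hlc (le_sup_left.trans hBM')) ?_) hEM
    exact hlB.ge.trans (cnj_mono l (le_sup_right.trans hBM'))
  have hC' : SL2Recog.cnj (l * a⁻¹) C ≤ M := by
    rw [← hMeq, ← cnj_cnj]
    refine cnj_mono l ?_
    have h1 := cnj_mono a⁻¹ hCa
    rwa [cnj_cnj, inv_mul_cancel, cnj_one] at h1
  have hCA := hfin _ (hC.conj hkc) fun a' ha' hle => hBM (by
    have h1 := (hC.conj hkc).umax_unique hc hb hM (hM'.cnj a')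
      (sup_le (le_sup_left.trans hEM) hC') (sup_le (le_sup_left.trans (hmax a' ha')) hle)
    have h2 : SL2Recog.cnj a' B ≤ M := h1 ▸ le_sup_right.trans (hmax a' ha')
    have h3 := cnj_le_of_mem (inv_mem (le_sup_right.trans hEM ha')) h2
    rwa [cnj_cnj, inv_mul_cancel, cnj_one] at h3)
  refine Or.inr ⟨a, ha, map_injective (f := (MulAut.conj (l * a⁻¹)).toMonoidHom) (MulAut.conj (l * a⁻¹)).injective ?_⟩
  show SL2Recog.cnj (l * a⁻¹) C = SL2Recog.cnj (l * a⁻¹) (SL2Recog.cnj a B)
  rw [hCA, cnj_cnj, inv_mul_cancel_right, hlB]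

end Cfsg.Agent.Lib.FFComp
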